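import Groth.Agent.H23WeilN.Order

/-! # Orders of finite families of Weil numbers -/

set_option autoImplicit false

universe u

open MvPolynomial

namespace Groth.Agent.H23WeilN

variable {p e : ℕ} [Fact p.Prime] {ι : Type} [Fintype ι] {K : ι → Type u} [∀ i, Field (K i)] [∀ i, CharZero (K i)]
  {π : ∀ i, K i}

theorem weil_ne_zero {K : Type u} [Field K] [CharZero K] {x : K} (hint : IsIntegral ℤ x)
    (hweil : ∀ z ∈ (minpoly ℤ x).aroots ℂ, ‖z‖ = Real.sqrt ((p : ℝ) ^ e)) : x ≠ 0 := by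
  rintro rfl
  have hc : (minpoly ℤ (0 : K)).coeff 0 = 0 := by
    have h1 := minpoly.aeval ℤ (0 : K)
    rw [← Polynomial.coeff_zero_eq_aeval_zero', eq_intCast] at h1
    exact Int.cast_eq_zero.mp h1
  have h := hweil 0 (Polynomial.mem_aroots.mpr ⟨(minpoly.monic hint).ne_zero, by
    rw [← Polynomial.coeff_zero_eq_aeval_zero', hc, map_zero]⟩)
  rw [norm_zero, eq_comm, Real.sqrt_eq_zero (by positivity)] at h
  exact (pow_ne_zero e (Nat.cast_ne_zero.mpr (Fact.out : p.Prime).ne_zero)) h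

theorem prod_dvd (hint : ∀ i, IsIntegral ℤ (π i))
    (hinj : ∀ i j, minpoly ℤ (π i) = minpoly ℤ (π j) → i = j) {G : Polynomial ℤ}
    (hG : ∀ i, Polynomial.aeval (π i) G = 0) : ∏ i, minpoly ℤ (π i) ∣ G := by
  classical
  refine Fintype.prod_dvd_of_isRelPrime (fun i j hij => ?_) fun i => minpoly.isIntegrallyClosed_dvd (hint i) (hG i)
  refine (minpoly.irreducible (hint i)).isRelPrime_iff_not_dvd.mpr fun hd => hij (hinj i j ?_)
  exact Polynomial.eq_of_monic_of_associated (minpoly.monic (hint i)) (minpoly.monic (hint j))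
    ((minpoly.irreducible (hint i)).associated_of_dvd (minpoly.irreducible (hint j)) hd)

theorem isSym_prod (hint : ∀ i, IsIntegral ℤ (π i))
    (hweil : ∀ i, ∀ z ∈ (minpoly ℤ (π i)).aroots ℂ, ‖z‖ = Real.sqrt ((p : ℝ) ^ e))
    {D : ℕ} (hD : ∑ i, (minpoly ℤ (π i)).natDegree = 2 * D) :
    ∃ ε, IsSym (∏ i, minpoly ℤ (π i)) ((p : ℤ) ^ e) D ε := by
  have h := exists_isSym (P := ∏ i, minpoly ℤ (π i)) (q := p ^ e)
    (Polynomial.monic_prod_of_monic _ _ fun i _ => minpoly.monic (hint i))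
    (D := D) (by rw [Polynomial.natDegree_prod_of_monic _ _ (fun i _ => minpoly.monic (hint i)), hD])
    (pow_pos (Fact.out : p.Prime).pos _) (fun z hz => by
      rw [Polynomial.mem_aroots, map_prod, Finset.prod_eq_zero_iff] at hz
      obtain ⟨i, -, hi⟩ := hz.2
      rw [hweil i z (Polynomial.mem_aroots.mpr ⟨(minpoly.monic (hint i)).ne_zero, hi⟩)]
      norm_cast)
  simpa using h

theorem family_main (hint : ∀ i, IsIntegral ℤ (π i))
    (hweil : ∀ i, ∀ z ∈ (minpoly ℤ (π i)).aroots ℂ, ‖z‖ = Real.sqrt ((p : ℝ) ^ e))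
    (hinj : ∀ i j, minpoly ℤ (π i) = minpoly ℤ (π j) → i = j)
    {D : ℕ} (hD : ∑ i, (minpoly ℤ (π i)).natDegree = 2 * D) :
    ∃ ε, IsSym (∏ i, minpoly ℤ (π i)) ((p : ℤ) ^ e) D ε ∧
      RingHom.ker (aeval ![fun i => π i, fun i => ((p : K i) ^ e) / π i] : FV →ₐ[ℤ] ((i : ι) → K i)) =
        relI (∏ i, minpoly ℤ (π i)) ((p : ℤ) ^ e) ε D ∧
      Module.Free ℤ (aeval ![fun i => π i, fun i => ((p : K i) ^ e) / π i] : FV →ₐ[ℤ] ((i : ι) → K i)).range ∧
      Module.finrank ℤ (aeval ![fun i => π i, fun i => ((p : K i) ^ e) / π i] : FV →ₐ[ℤ] ((i : ι) → K i)).range =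
        2 * D := by
  obtain ⟨ε, hs⟩ := isSym_prod hint hweil hD
  have hne := fun i => weil_ne_zero (hint i) (hweil i)
  refine ⟨ε, hs, main hs (pow_ne_zero _ (Int.natCast_ne_zero.mpr (Fact.out : p.Prime).ne_zero)) _ _ ?_ ?_ ?_ ?_⟩
  · funext i
    simp only [Pi.mul_apply, Pi.intCast_apply, mul_div_cancel₀ _ (hne i)]
    simp
  · funext i
    show Pi.evalAlgHom ℤ K i (Polynomial.aeval π (∏ i, minpoly ℤ (π i))) = 0
    rw [← Polynomial.aeval_algHom_apply, map_prod]
    exact Finset.prod_eq_zero (Finset.mem_univ i) (minpoly.aeval ℤ _)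
  · intro x hx
    funext i
    exact (mul_eq_zero.mp (congrFun hx i)).resolve_left (hne i)
  · intro G hG
    refine prod_dvd hint hinj fun i => ?_
    have h1 := congrArg (Pi.evalAlgHom ℤ K i) hG
    rw [← Polynomial.aeval_algHom_apply, map_zero] at h1
    exact h1

theorem symPoly_cong {P : Polynomial ℤ} {q ε : ℤ} {D : ℕ} (hs : IsSym P q D ε) (hq : q ≠ 0) {h : FV}
    (hh : X 0 ^ D * h - Polynomial.aeval (X 0 : FV) P ∈ Ideal.span {relq q}) :
    h - symPoly P D ε ∈ Ideal.span {relq q} := by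
  refine mem_span_of_pow_mul_mem hq (N := D) ?_
  have := sub_mem hh (pow_mul_symPoly_sub_mem hs)
  convert this using 1
  ring

theorem relI_eq {P : Polynomial ℤ} {q ε : ℤ} {D : ℕ} (hs : IsSym P q D ε) (hq : q ≠ 0) {h : FV}
    (hh : X 0 ^ D * h - Polynomial.aeval (X 0 : FV) P ∈ Ideal.span {relq q}) :
    relI P q ε D = Ideal.span {relq q, h} := by
  obtain ⟨c, hc⟩ := Ideal.mem_span_singleton'.mp (symPoly_cong hs hq hh)
  apply le_antisymm <;>
    rw [relI, Ideal.span_le, Set.insert_subset_iff, Set.singleton_subset_iff] <;>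
    refine ⟨Ideal.subset_span (Set.mem_insert _ _), ?_⟩
  · exact Ideal.mem_span_pair.mpr ⟨-c, 1, by linear_combination -hc⟩
  · exact Ideal.mem_span_pair.mpr ⟨c, 1, by linear_combination hc⟩

theorem ne_zero_of_pow_mul_sub_mem {P : Polynomial ℤ} {q : ℤ} (hq : q ≠ 0) (hP : P ≠ 0) {D : ℕ} {h : FV}
    (hh : X 0 ^ D * h - Polynomial.aeval (X 0 : FV) P ∈ Ideal.span {relq q}) : h ∉ Ideal.span {relq q} :=
  fun hm => hP (eq_zero_of_aeval_mem hq (by
    have := sub_mem (Ideal.mul_mem_left _ (X 0 ^ D) hm) hh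
    rwa [sub_sub_cancel] at this))

theorem regular_pair {q : ℤ} (hq : q ≠ 0) {h : FV} (hh : h ∉ Ideal.span {relq q}) :
    RingTheory.Sequence.IsWeaklyRegular FV [relq q, h] := by
  refine ⟨fun i hi => ?_⟩
  rw [isSMulRegular_quotient_iff_mem_of_smul_mem]
  match i, hi with
  | 0, _ =>
    intro x hx
    have key : (Ideal.ofList ([] : List FV) • ⊤ : Submodule FV FV) = ⊥ := by simp
    simp only [List.getElem_cons_zero, List.take_zero] at hx ⊢
    rw [key, Submodule.mem_bot, smul_eq_mul, mul_eq_zero] at hx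
    rw [key, Submodule.mem_bot]
    refine hx.resolve_left fun h0 => hq ?_
    have h1 := congrArg (aeval ![(0 : ℤ), 0]) h0
    simpa [relq] using h1
  | 1, _ =>
    intro x hx
    simp only [List.getElem_cons_succ, List.getElem_cons_zero, List.take_succ_cons, List.take_zero,
      Ideal.ofList_singleton, Ideal.smul_eq_mul, Ideal.mul_top, smul_eq_mul] at hx ⊢
    exact (mul_mem_span_relq hq hx).resolve_left hh

end Groth.Agent.H23WeilN
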