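import Mathlib

/-! # The functional equation of a product of Weil polynomials -/

set_option autoImplicit false

universe u

open Polynomial

namespace Groth.Agent.H23WeilN

/-- The coefficient symmetry of a Weil polynomial of degree `2D` with respect to `q`. -/
structure IsSym (P : ℤ[X]) (q : ℤ) (D : ℕ) (ε : ℤ) : Prop where
  monic : P.Monic
  natDegree : P.natDegree = 2 * D
  sign : ε * ε = 1
  coeff : ∀ r ≤ D, P.coeff (D - r) = ε * q ^ r * P.coeff (D + r)

theorem exists_isSym {P : ℤ[X]} (hmon : P.Monic) {D : ℕ} (hdeg : P.natDegree = 2 * D) {q : ℕ} (hq : 0 < q)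
    (hweil : ∀ z ∈ P.aroots ℂ, ‖z‖ = Real.sqrt (q : ℝ)) : ∃ ε, IsSym P (q : ℤ) D ε := by
  classical
  set PC := P.map (algebraMap ℤ ℂ) with hPC
  have hPCm : PC.Monic := hmon.map _
  set R := P.aroots ℂ with hR
  have hsplit : PC.Splits := IsAlgClosed.splits PC
  have hinj : Function.Injective (algebraMap ℤ ℂ) := (algebraMap ℤ ℂ).injective_int
  have hcard : R.card = 2 * D := by
    rw [hR, Polynomial.aroots_def, ← hPC, ← hsplit.natDegree_eq_card_roots, hPC,
      Polynomial.natDegree_map_eq_of_injective hinj, hdeg]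
  have hprod : PC = (R.map fun z => X - C z).prod := hsplit.eq_prod_roots_of_monic hPCm
  have hconj : R.map (starRingEnd ℂ) = R := by
    rw [hR, Polynomial.aroots_def, ← hPC, ← hsplit.roots_map (starRingEnd ℂ), hPC,
      Polynomial.map_map, RingHom.ext_int ((starRingEnd ℂ).comp (algebraMap ℤ ℂ)) (algebraMap ℤ ℂ)]
  have hzz : ∀ z ∈ R, (starRingEnd ℂ) z * z = (q : ℂ) := fun z hz => by
    rw [mul_comm, Complex.mul_conj, Complex.normSq_eq_norm_sq, hweil z hz, Real.sq_sqrt (Nat.cast_nonneg q),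
      Complex.ofReal_natCast]
  have ha₀ : ((P.coeff 0 : ℤ) : ℂ) = R.prod := by
    have h := congrArg (Polynomial.eval 0) hprod
    rw [← Polynomial.coeff_zero_eq_eval_zero, hPC, Polynomial.coeff_map, eq_intCast, Polynomial.eval_multiset_prod,
      Multiset.map_map] at h
    simp only [Function.comp_def, Polynomial.eval_sub, Polynomial.eval_X, Polynomial.eval_C, zero_sub] at h
    rw [h, Multiset.prod_map_neg, hcard, Even.neg_one_pow (even_two_mul D), one_mul]
  have habs : P.coeff 0 = (q : ℤ) ^ D ∨ P.coeff 0 = -(q : ℤ) ^ D := by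
    have h1 : ‖R.prod‖ = (q : ℝ) ^ D := by
      have h2 : ‖R.prod‖ = (R.map fun z => ‖z‖).prod := map_multiset_prod (normHom : ℂ →*₀ ℝ) R
      rw [h2, Multiset.map_congr rfl hweil, Multiset.map_const', Multiset.prod_replicate, hcard, pow_mul,
        Real.sq_sqrt (Nat.cast_nonneg q)]
    rw [← ha₀, Complex.norm_intCast] at h1
    have h3 : |P.coeff 0| = (q : ℤ) ^ D := by exact_mod_cast h1
    exact (abs_eq (by positivity)).mp h3
  obtain ⟨ε, hε, hε0⟩ : ∃ ε : ℤ, ε * ε = 1 ∧ P.coeff 0 = ε * (q : ℤ) ^ D := by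
    rcases habs with h | h
    · exact ⟨1, one_mul 1, by rw [h, one_mul]⟩
    · exact ⟨-1, by norm_num, by rw [h]; ring⟩
  let Q : ℂ[X] := ∑ j ∈ Finset.range (2 * D + 1),
    C ((P.coeff (2 * D - j) : ℂ) * (q : ℂ) ^ (2 * D - j)) * X ^ j
  have hev : ∀ x : ℂ, x ≠ 0 → Q.eval x = (C ((P.coeff 0 : ℤ) : ℂ) * PC).eval x := by
    intro x hx
    have h1 : Q.eval x = x ^ (2 * D) * PC.eval ((q : ℂ) / x) := by
      rw [Polynomial.eval_eq_sum_range' (p := PC) (n := 2 * D + 1) (by
        rw [hPC, Polynomial.natDegree_map_eq_of_injective hinj, hdeg]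
        exact Nat.lt_succ_self _), Finset.mul_sum, ← Finset.sum_range_reflect]
      simp only [Q, Polynomial.eval_finsetSum, Polynomial.eval_mul, Polynomial.eval_C,
        Polynomial.eval_pow, Polynomial.eval_X, hPC, Polynomial.coeff_map]
      refine Finset.sum_congr rfl fun j hj => ?_
      rw [Finset.mem_range] at hj
      rw [show 2 * D + 1 - 1 - j = 2 * D - j by omega, div_pow,
        show x ^ (2 * D) = x ^ j * x ^ (2 * D - j) by rw [← pow_add]; congr 1; omega]
      simp only [eq_intCast]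
      field_simp
    rw [h1, Polynomial.eval_mul, Polynomial.eval_C, hprod, Polynomial.eval_multiset_prod, Multiset.map_map,
      Polynomial.eval_multiset_prod, Multiset.map_map]
    have h2 : (R.map fun z => x * ((q : ℂ) / x - z)) = R.map fun z => -z * (x - (starRingEnd ℂ) z) :=
      Multiset.map_congr rfl fun z hz => by
        rw [mul_sub, mul_div_cancel₀ _ hx, ← hzz z hz]
        ring
    have h3 := congrArg Multiset.prod h2
    rw [Multiset.prod_map_mul, Multiset.map_const', Multiset.prod_replicate, Multiset.prod_map_mul,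
      Multiset.prod_map_neg, hcard, Even.neg_one_pow (even_two_mul D), one_mul, ← ha₀] at h3
    simp only [Function.comp_def, Polynomial.eval_sub, Polynomial.eval_X, Polynomial.eval_C]
    rw [h3]
    congr 2
    conv_rhs => rw [← hconj, Multiset.map_map]
    rfl
  have hQ : Q = C ((P.coeff 0 : ℤ) : ℂ) * PC :=
    Polynomial.eq_of_infinite_eval_eq _ _ <| (Set.finite_singleton (0 : ℂ)).infinite_compl.mono
      fun x hx => hev x hx
  refine ⟨ε, hmon, hdeg, hε, fun r hr => ?_⟩
  have hc := congrArg (fun f => Polynomial.coeff f (D + r)) hQ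
  simp only [Q, Polynomial.finsetSum_coeff, Polynomial.coeff_C_mul, Polynomial.coeff_X_pow, hPC,
    Polynomial.coeff_map, mul_ite, mul_one, mul_zero, eq_intCast] at hc
  rw [Finset.sum_ite_eq, if_pos (by simp; omega), show 2 * D - (D + r) = D - r by omega, hε0] at hc
  push_cast at hc
  have h5 : ((P.coeff (D - r) : ℤ) : ℂ) = ((ε * (q : ℤ) ^ r * P.coeff (D + r) : ℤ) : ℂ) := by
    push_cast
    rw [show (q : ℂ) ^ D = (q : ℂ) ^ r * (q : ℂ) ^ (D - r) by rw [← pow_add]; congr 1; omega] at hc
    refine mul_right_cancel₀ (pow_ne_zero (D - r) (Nat.cast_ne_zero.mpr hq.ne' : (q : ℂ) ≠ 0)) ?_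
    linear_combination hc
  exact_mod_cast h5

end Groth.Agent.H23WeilN
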