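import Groth.Agent.H23WeilN.Family
import Groth.Agent.H02CA.GorRing

/-! # Gorenstein quotients of `ℤ[F, V]` -/

set_option autoImplicit false

universe u

open MvPolynomial

namespace Groth.Agent.H23WeilN

theorem isWeaklyRegular_map {L : Type u} [CommRing L] (g : FV →+* L) (hg : g.Flat) {rs : List FV}
    (hreg : RingTheory.Sequence.IsWeaklyRegular FV rs) : RingTheory.Sequence.IsWeaklyRegular L (rs.map g) := by
  letI : Algebra FV L := g.toAlgebra
  haveI : Module.Flat FV L := hg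
  exact hreg.of_flat

theorem isGorensteinRing_range {B : Type u} [CommRing B] (φ : FV →ₐ[ℤ] B)
    (h : ∀ P : Ideal FV, P.IsPrime → RingHom.ker φ ≤ P → ∃ rs : List FV,
      RingTheory.Sequence.IsWeaklyRegular FV rs ∧
        ∃ s ∉ P, (∀ r ∈ rs, s * r ∈ RingHom.ker φ) ∧ ∀ a ∈ RingHom.ker φ, s * a ∈ Ideal.ofList rs) :
    LocCoh.IsGorensteinRing φ.range := by
  let R := ULift.{u} FV
  haveI : IsRegularRing R := IsRegularRing.of_ringEquiv (ULift.ringEquiv (R := FV)).symm
  haveI : LocCoh.IsGorensteinRing R := H02CA.GorFlat.isGorensteinRing_of_isRegularRing R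
  let ψ : R →+* φ.range := φ.rangeRestrict.toRingHom.comp (ULift.ringEquiv (R := FV)).toRingHom
  have hψ : Function.Surjective ψ := φ.rangeRestrict_surjective.comp (ULift.ringEquiv (R := FV)).surjective
  refine H02CA.GorFlat.isGorensteinRing_of_surjective ψ hψ fun P _ hP => ?_
  have hker : ∀ a : FV, (ULift.up a : R) ∈ RingHom.ker ψ ↔ a ∈ RingHom.ker φ := fun a =>
    ⟨fun ha => congrArg Subtype.val ha, fun ha => Subtype.ext ha⟩
  obtain ⟨rs, hreg, s, hs, hle, hmem⟩ := h (P.comap (ULift.ringEquiv (R := FV)).symm.toRingHom) inferInstance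
    fun a ha => hP ((hker a).mpr ha)
  let L := Localization.AtPrime P
  let g : FV →+* L := (algebraMap R L).comp (ULift.ringEquiv (R := FV)).symm.toRingHom
  have hg : g.Flat := RingHom.Flat.comp (RingHom.Flat.of_bijective (ULift.ringEquiv (R := FV)).symm.bijective)
    (RingHom.flat_algebraMap_iff.mpr (IsLocalization.flat L P.primeCompl))
  refine ⟨rs.map g, isWeaklyRegular_map g hg hreg, le_antisymm ?_ ?_⟩
  · refine Ideal.span_le.mpr fun x hx => ?_
    obtain ⟨a, ha, rfl⟩ := List.mem_map.mp hx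
    have h1 : g (s * a) ∈ (RingHom.ker ψ).map (algebraMap R L) := Ideal.mem_map_of_mem _ ((hker _).mpr (hle a ha))
    rw [map_mul] at h1
    exact (Ideal.unit_mul_mem_iff_mem _ (show IsUnit (g s) from
      IsLocalization.map_units L (⟨(ULift.ringEquiv (R := FV)).symm s, hs⟩ : P.primeCompl))).mp h1
  · rw [Ideal.map_le_iff_le_comap]
    rintro ⟨a⟩ ha
    have h1 := Ideal.mem_map_of_mem g (hmem a ((hker a).mp ha))
    rw [map_mul, Ideal.map_ofList] at h1
    have hu : IsUnit (g s) :=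
      IsLocalization.map_units L (⟨(ULift.ringEquiv (R := FV)).symm s, hs⟩ : P.primeCompl)
    exact (Ideal.unit_mul_mem_iff_mem _ hu).mp h1

theorem ofList_pair (a b : FV) : Ideal.ofList [a, b] = Ideal.span {a, b} := by
  simp [Ideal.ofList_cons, Ideal.ofList_singleton, Ideal.span_insert, Submodule.span_insert]

theorem ringKrullDim_range {B : Type u} [CommRing B] [CharZero B] [Nontrivial B] (φ : FV →ₐ[ℤ] B)
    [Module.Finite ℤ φ.range] : ringKrullDim φ.range = 1 := by
  haveI : Algebra.IsIntegral ℤ φ.range := Algebra.IsIntegral.of_finite ℤ _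
  rw [← IsPrincipalIdealRing.ringKrullDim_eq_one ℤ Int.not_isField]
  have hinj : Function.Injective (algebraMap ℤ φ.range) := fun a b hab => by
    have := congrArg Subtype.val hab
    simpa using this
  haveI : FaithfulSMul ℤ φ.range := (faithfulSMul_iff_algebraMap_injective ℤ φ.range).mpr hinj
  refine le_antisymm (Order.krullDim_le_of_strictMono (PrimeSpectrum.comap (algebraMap ℤ φ.range))
    fun p q hpq => Ideal.IsIntegral.comap_lt_comap (R := ℤ) hpq) ?_
  rw [IsPrincipalIdealRing.ringKrullDim_eq_one ℤ Int.not_isField]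
  obtain ⟨Q₀, -, hQ₀, hQ₀p⟩ := Ideal.exists_ideal_over_prime_of_isIntegral (⊥ : Ideal ℤ) (⊥ : Ideal φ.range) (by
    rw [← RingHom.ker_eq_comap_bot, (RingHom.injective_iff_ker_eq_bot _).mp hinj])
  haveI : (Ideal.span {(2 : ℤ)}).IsPrime := (Ideal.span_singleton_prime two_ne_zero).mpr Int.prime_two
  obtain ⟨Q₁, hle, hQ₁, hQ₁p⟩ := Ideal.exists_ideal_over_prime_of_isIntegral (Ideal.span {(2 : ℤ)}) Q₀ (by
    rw [hQ₀p]; exact bot_le)
  have hlt : (⟨Q₀, hQ₀⟩ : PrimeSpectrum φ.range) < ⟨Q₁, hQ₁⟩ := lt_of_le_of_ne hle fun hc => by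
    have h1 : Q₀ = Q₁ := congrArg PrimeSpectrum.asIdeal hc
    rw [← h1, hQ₀p, eq_comm, Ideal.span_singleton_eq_bot] at hQ₁p
    exact two_ne_zero hQ₁p
  exact Order.LTSeries.length_le_krullDim
    ((RelSeries.singleton {(a, b) : PrimeSpectrum φ.range × PrimeSpectrum φ.range | a < b} ⟨Q₀, hQ₀⟩).snoc ⟨Q₁, hQ₁⟩ (by simpa using hlt))

end Groth.Agent.H23WeilN
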