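import Groth.Agent.H23WeilN.FuncEq

/-! # The order `ℤ[F, V] / (FV − q, h)` attached to a Weil polynomial -/

set_option autoImplicit false

universe u

open MvPolynomial

namespace Groth.Agent.H23WeilN

/-- The ring `ℤ[F, V]`. -/
abbrev FV := MvPolynomial (Fin 2) ℤ

/-- The polynomial `FV − q`. -/
noncomputable def relq (q : ℤ) : FV := X 0 * X 1 - C q

/-- The symmetric polynomial of `P`. -/
noncomputable def symPoly (P : Polynomial ℤ) (D : ℕ) (ε : ℤ) : FV :=
  (∑ r ∈ Finset.range (D + 1), C (P.coeff (D + r)) * X 0 ^ r) +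
    ∑ r ∈ Finset.range D, C (ε * P.coeff (D + r + 1)) * X 1 ^ (r + 1)

theorem pow_mul_aeval_symPoly {P : Polynomial ℤ} {q ε : ℤ} {D : ℕ} (hs : IsSym P q D ε) {B : Type u} [CommRing B]
    (f v : B) (hfv : f * v = (q : B)) :
    f ^ D * aeval ![f, v] (symPoly P D ε) = Polynomial.aeval f P := by
  rw [Polynomial.aeval_eq_sum_range' (n := D + (D + 1)) (by rw [hs.natDegree]; omega), Finset.sum_range_add]
  simp only [symPoly, map_add, map_sum, map_mul, map_pow, aeval_C, aeval_X, Matrix.cons_val_zero, Matrix.cons_val_one,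
    zsmul_eq_mul, eq_intCast, map_intCast, mul_add, Finset.mul_sum]
  rw [add_comm]
  congr 1
  · rw [← Finset.sum_range_reflect (fun j => (P.coeff j : B) * f ^ j)]
    refine Finset.sum_congr rfl fun r hr => ?_
    rw [Finset.mem_range] at hr
    rw [show D - 1 - r = D - (r + 1) by omega, hs.coeff (r + 1) (by omega), show D + (r + 1) = D + r + 1 from rfl]
    push_cast
    rw [show f ^ D = f ^ (D - (r + 1)) * f ^ (r + 1) by rw [← pow_add]; congr 1; omega, ← hfv, mul_pow]
    ring
  · exact Finset.sum_congr rfl fun r _ => by rw [pow_add]; ring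

theorem exists_pow_mul_sub_mem (q : ℤ) (g : FV) :
    ∃ (N : ℕ) (G : Polynomial ℤ), X 0 ^ N * g - Polynomial.aeval (X 0 : FV) G ∈ Ideal.span {relq q} := by
  induction g using MvPolynomial.induction_on with
  | C a => exact ⟨0, Polynomial.C a, by simp⟩
  | add g₁ g₂ h₁ h₂ =>
    obtain ⟨N₁, G₁, h₁⟩ := h₁
    obtain ⟨N₂, G₂, h₂⟩ := h₂
    refine ⟨N₁ + N₂, Polynomial.X ^ N₂ * G₁ + Polynomial.X ^ N₁ * G₂, ?_⟩
    rw [map_add, map_mul, map_mul, map_pow, map_pow, Polynomial.aeval_X]
    have := add_mem (Ideal.mul_mem_left _ (X 0 ^ N₂) h₁) (Ideal.mul_mem_left _ (X 0 ^ N₁) h₂)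
    convert this using 1
    ring
  | mul_X g i h =>
    obtain ⟨N, G, h⟩ := h
    fin_cases i
    · refine ⟨N, G * Polynomial.X, ?_⟩
      rw [map_mul, Polynomial.aeval_X]
      have := Ideal.mul_mem_left _ (X 0 : FV) h
      convert this using 1
      simp
      ring
    · refine ⟨N + 1, Polynomial.C q * G, ?_⟩
      rw [map_mul, Polynomial.aeval_C]
      have := add_mem (Ideal.mul_mem_left (Ideal.span {relq q}) (C q : FV) h)
        (Ideal.mul_mem_left _ (X 0 ^ N * g) (Ideal.subset_span rfl : relq q ∈ Ideal.span {relq q}))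
      convert this using 1
      simp [relq]
      ring

theorem mem_span_of_X_mul_mem {q : ℤ} (hq : q ≠ 0) {g : FV} (h : X 0 * g ∈ Ideal.span {relq q}) :
    g ∈ Ideal.span {relq q} := by
  obtain ⟨k, hk⟩ := Ideal.mem_span_singleton'.mp h
  let ev : FV →ₐ[ℤ] FV := aeval ![0, X 1]
  have hdiv : ∀ g : FV, X 0 ∣ g - ev g := fun g => by
    induction g using MvPolynomial.induction_on with
    | C a => simp [ev]
    | add a b ha hb => rw [map_add, add_sub_add_comm]; exact dvd_add ha hb
    | mul_X a i ha =>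
      fin_cases i
      · simp [ev]
      · have : a * X 1 - ev (a * X 1) = (a - ev a) * X 1 := by simp [ev, sub_mul]
        simp only [Fin.mk_one, this]
        exact dvd_mul_of_dvd_left ha _
  have h0 : ev k = 0 := by
    have h1 := congrArg ev hk
    simp [ev, relq] at h1
    exact h1.resolve_right hq
  obtain ⟨k', hk'⟩ := hdiv k
  rw [h0, sub_zero] at hk'
  refine Ideal.mem_span_singleton'.mpr ⟨k', mul_left_cancel₀ (X_ne_zero (0 : Fin 2)) ?_⟩
  rw [← mul_assoc, ← hk', hk]

theorem mem_span_of_pow_mul_mem {q : ℤ} (hq : q ≠ 0) {N : ℕ} {g : FV} (h : X 0 ^ N * g ∈ Ideal.span {relq q}) :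
    g ∈ Ideal.span {relq q} := by
  induction N generalizing g with
  | zero => simpa using h
  | succ N ih =>
    rw [pow_succ, mul_assoc] at h
    exact mem_span_of_X_mul_mem hq (ih h)

theorem eq_zero_of_aeval_mem {q : ℤ} (hq : q ≠ 0) {G : Polynomial ℤ}
    (h : Polynomial.aeval (X 0 : FV) G ∈ Ideal.span {relq q}) : G = 0 := by
  let ψ : FV →ₐ[ℤ] FractionRing (Polynomial ℤ) :=
    aeval ![algebraMap (Polynomial ℤ) _ Polynomial.X, (q : FractionRing (Polynomial ℤ)) / algebraMap (Polynomial ℤ) _ Polynomial.X]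
  have h0 : ψ (relq q) = 0 := by
    have hX : algebraMap (Polynomial ℤ) (FractionRing (Polynomial ℤ)) Polynomial.X ≠ 0 :=
      fun h' => Polynomial.X_ne_zero (IsFractionRing.injective (Polynomial ℤ) (FractionRing (Polynomial ℤ))
        (by rw [h', map_zero]))
    simp [ψ, relq, mul_div_cancel₀ _ hX]
  obtain ⟨k, hk⟩ := Ideal.mem_span_singleton'.mp h
  have h1 := congrArg ψ hk
  rw [map_mul, h0, mul_zero, ← Polynomial.aeval_algHom_apply] at h1
  simp only [ψ, aeval_X, Matrix.cons_val_zero] at h1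
  rw [Polynomial.aeval_algebraMap_apply, Polynomial.aeval_X_left_apply] at h1
  exact IsFractionRing.injective (Polynomial ℤ) (FractionRing (Polynomial ℤ)) (by rw [← h1, map_zero])

theorem mul_mem_span_relq {q : ℤ} (hq : q ≠ 0) {a b : FV} (h : a * b ∈ Ideal.span {relq q}) :
    a ∈ Ideal.span {relq q} ∨ b ∈ Ideal.span {relq q} := by
  obtain ⟨N, G, hG⟩ := exists_pow_mul_sub_mem q a
  obtain ⟨N', G', hG'⟩ := exists_pow_mul_sub_mem q b
  have h1 : Polynomial.aeval (X 0 : FV) (G * G') ∈ Ideal.span {relq q} := by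
    have h2 := Ideal.mul_mem_left _ (X 0 ^ N * X 0 ^ N') h
    have h3 := add_mem (Ideal.mul_mem_left _ (X 0 ^ N' * b) hG) (Ideal.mul_mem_left _ (Polynomial.aeval (X 0 : FV) G) hG')
    have := sub_mem h2 h3
    rw [map_mul]
    convert this using 1
    ring
  rcases mul_eq_zero.mp (eq_zero_of_aeval_mem hq h1) with h0 | h0
  · left; rw [h0, map_zero, sub_zero] at hG; exact mem_span_of_pow_mul_mem hq hG
  · right; rw [h0, map_zero, sub_zero] at hG'; exact mem_span_of_pow_mul_mem hq hG'

theorem pow_mul_symPoly_sub_mem {P : Polynomial ℤ} {q ε : ℤ} {D : ℕ} (hs : IsSym P q D ε) :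
    X 0 ^ D * symPoly P D ε - Polynomial.aeval (X 0 : FV) P ∈ Ideal.span {relq q} := by
  rw [← Ideal.Quotient.eq_zero_iff_mem]
  let mk : FV →ₐ[ℤ] FV ⧸ Ideal.span {relq q} := Ideal.Quotient.mkₐ ℤ _
  show mk _ = 0
  have hfv : mk (X 0) * mk (X 1) = (q : FV ⧸ Ideal.span {relq q}) := by
    have h2 : mk (X 0 * X 1) = mk (C q) := Ideal.Quotient.eq.mpr (Ideal.subset_span rfl)
    rw [map_mul] at h2
    rw [h2]
    simp
  have h := pow_mul_aeval_symPoly hs (mk (X 0)) (mk (X 1)) hfv
  rw [map_sub, map_mul, map_pow, ← Polynomial.aeval_algHom_apply, sub_eq_zero]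
  refine Eq.trans ?_ h
  congr 1
  refine RingHom.congr_fun (f := mk.toRingHom) (g := (aeval ![mk (X 0), mk (X 1)]).toRingHom)
    (MvPolynomial.ringHom_ext (fun r => by simp) fun i => ?_) _
  fin_cases i <;> simp

variable {P : Polynomial ℤ} {q ε : ℤ} {D : ℕ}

/-- The ideal of the relations. -/
noncomputable def relI (P : Polynomial ℤ) (q ε : ℤ) (D : ℕ) : Ideal FV := Ideal.span {relq q, symPoly P D ε}

/-- The spanning family `1, F, …, F^D, V, …, V^(D-1)`. -/
noncomputable def gen (P : Polynomial ℤ) (q ε : ℤ) (D : ℕ) (i : Fin (2 * D)) : FV ⧸ relI P q ε D :=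
  if i.val ≤ D then Ideal.Quotient.mk _ (X 0) ^ i.val else Ideal.Quotient.mk _ (X 1) ^ (i.val - D)

theorem span_gen (hs : IsSym P q D ε) : Submodule.span ℤ (Set.range (gen P q ε D)) = ⊤ := by
  set A := FV ⧸ relI P q ε D
  set f : A := Ideal.Quotient.mk _ (X 0)
  set v : A := Ideal.Quotient.mk _ (X 1)
  set W := Submodule.span ℤ (Set.range (gen P q ε D))
  have hfv : f * v = (q : A) := by
    have h1 : Ideal.Quotient.mk (relI P q ε D) (relq q) = 0 :=
      Ideal.Quotient.eq_zero_iff_mem.mpr (Ideal.subset_span (Set.mem_insert _ _))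
    rw [relq, map_sub, map_mul, sub_eq_zero] at h1
    rw [h1]
    simp
  have hrel : (∑ r ∈ Finset.range (D + 1), (P.coeff (D + r)) • f ^ r) +
      ∑ r ∈ Finset.range D, (ε * P.coeff (D + r + 1)) • v ^ (r + 1) = 0 := by
    have h1 : Ideal.Quotient.mk (relI P q ε D) (symPoly P D ε) = 0 :=
      Ideal.Quotient.eq_zero_iff_mem.mpr (Ideal.subset_span (Set.mem_insert_of_mem _ rfl))
    simpa [symPoly, map_sum, zsmul_eq_mul] using h1
  have hlead : P.coeff (D + D) = 1 := by
    have h1 := hs.monic.coeff_natDegree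
    rwa [hs.natDegree, two_mul] at h1
  rcases Nat.eq_zero_or_pos D with rfl | hD
  · have h1 : (1 : A) = 0 := by simpa [hlead] using hrel
    rw [eq_top_iff]
    intro z _
    rw [← mul_one z, h1, mul_zero]
    exact zero_mem _
  have hfW : ∀ i, i ≤ D → f ^ i ∈ W := fun i hi => Submodule.subset_span ⟨⟨i, by omega⟩, by simp [gen, hi, f]⟩
  have hvW : ∀ i, i < D → v ^ i ∈ W := fun i hi => by
    rcases Nat.eq_zero_or_pos i with rfl | hi0
    · simpa using hfW 0 (Nat.zero_le _)
    · exact Submodule.subset_span ⟨⟨D + i, by omega⟩, by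
        simp only [gen]; rw [if_neg (by omega), show D + i - D = i by omega]⟩
  have hvD : v ^ D ∈ W := by
    obtain ⟨m, rfl⟩ : ∃ m, D = m + 1 := ⟨D - 1, by omega⟩
    rw [Finset.sum_range_succ (n := m), show m + 1 + m + 1 = m + 1 + (m + 1) from rfl, hlead, mul_one] at hrel
    have hmem : ε • v ^ (m + 1) ∈ W := by
      have h1 : ε • v ^ (m + 1) = -((∑ r ∈ Finset.range (m + 1 + 1), (P.coeff (m + 1 + r)) • f ^ r) +
          ∑ r ∈ Finset.range m, (ε * P.coeff (m + 1 + r + 1)) • v ^ (r + 1)) := by linear_combination hrel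
      rw [h1]
      refine neg_mem (add_mem (sum_mem fun r hr => W.smul_mem _ (hfW r ?_)) (sum_mem fun r hr => W.smul_mem _ (hvW _ ?_)))
      · rw [Finset.mem_range] at hr; omega
      · rw [Finset.mem_range] at hr; omega
    have := W.smul_mem ε hmem
    rwa [smul_smul, hs.sign, one_smul] at this
  have hfD : f ^ (D + 1) ∈ W := by
    have h0 := hrel
    rw [Finset.sum_range_succ, hlead, one_smul] at h0
    replace h0 := congrArg (fun x => f * x) h0
    simp only [mul_zero, mul_add, Finset.mul_sum, mul_smul_comm] at h0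
    have h1 : f ^ (D + 1) = -((f * ∑ r ∈ Finset.range D, (P.coeff (D + r)) • f ^ r) +
          f * ∑ r ∈ Finset.range D, (ε * P.coeff (D + r + 1)) • v ^ (r + 1)) := by
      rw [pow_succ']; linear_combination h0
    rw [h1, Finset.mul_sum, Finset.mul_sum]
    refine neg_mem (add_mem (sum_mem fun r hr => ?_) (sum_mem fun r hr => ?_)) <;> rw [mul_smul_comm] <;>
      refine W.smul_mem _ ?_
    · rw [← pow_succ']; exact hfW _ (by rw [Finset.mem_range] at hr; omega)
    · rw [pow_succ', ← mul_assoc, hfv, ← zsmul_eq_mul]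
      exact W.smul_mem _ (hvW _ (Finset.mem_range.mp hr))
  have hvW' : ∀ i, i ≤ D → v ^ i ∈ W := fun i hi => by
    rcases Nat.lt_or_eq_of_le hi with h | h
    · exact hvW i h
    · subst h; exact hvD
  have hmul : ∀ x ∈ W, f * x ∈ W ∧ v * x ∈ W := by
    intro x hx
    refine Submodule.span_induction ?_ ?_ ?_ ?_ hx
    · rintro _ ⟨i, rfl⟩
      simp only [gen]
      split_ifs with hi
      · refine ⟨?_, ?_⟩
        · rw [← pow_succ']
          rcases Nat.lt_or_ge i.val D with h | h
          · exact hfW _ h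
          · rw [show i.val = D by omega]; exact hfD
        · rcases Nat.eq_zero_or_pos i.val with h | h
          · rw [h, pow_zero, mul_one]
            simpa [v] using hvW' 1 hD
          · rw [show i.val = (i.val - 1) + 1 by omega, pow_succ', ← mul_assoc, mul_comm v f, hfv, ← zsmul_eq_mul]
            exact W.smul_mem _ (hfW _ (by omega))
      · obtain ⟨j, hj⟩ : ∃ j, i.val - D = j + 1 := ⟨i.val - D - 1, by omega⟩
        rw [hj]
        refine ⟨?_, ?_⟩
        · rw [pow_succ', ← mul_assoc, hfv, ← zsmul_eq_mul]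
          exact W.smul_mem _ (hvW _ (by omega))
        · rw [← pow_succ']
          rcases Nat.lt_or_ge (j + 1 + 1) D with h | h
          · exact hvW _ h
          · rw [show j + 1 + 1 = D by omega]; exact hvD
    · simp
    · intro a b _ _ ha hb; simp only [mul_add]; exact ⟨add_mem ha.1 hb.1, add_mem ha.2 hb.2⟩
    · intro c a _ ha; simp only [mul_smul_comm]; exact ⟨W.smul_mem _ ha.1, W.smul_mem _ ha.2⟩
  rw [eq_top_iff]
  intro z _
  obtain ⟨g, rfl⟩ := Ideal.Quotient.mk_surjective z
  induction g using MvPolynomial.induction_on with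
  | C a => simpa [zsmul_eq_mul] using W.smul_mem a (hfW 0 (Nat.zero_le _))
  | add a b ha hb => rw [map_add]; exact add_mem (ha trivial) (hb trivial)
  | mul_X a i ha =>
    rw [map_mul, mul_comm]
    fin_cases i
    · exact (hmul _ (ha trivial)).1
    · exact (hmul _ (ha trivial)).2

theorem main (hs : IsSym P q D ε) (hq : q ≠ 0) {B : Type u} [CommRing B] (f v : B) (hfv : f * v = (q : B))
    (hroot : Polynomial.aeval f P = 0) (hreg : ∀ x, f * x = 0 → x = 0)
    (hind : ∀ G : Polynomial ℤ, Polynomial.aeval f G = 0 → P ∣ G) :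
    RingHom.ker (aeval ![f, v] : FV →ₐ[ℤ] B) = relI P q ε D ∧
      Module.Free ℤ (aeval ![f, v] : FV →ₐ[ℤ] B).range ∧
      Module.finrank ℤ (aeval ![f, v] : FV →ₐ[ℤ] B).range = 2 * D := by
  set φ : FV →ₐ[ℤ] B := aeval ![f, v]
  have hle : relI P q ε D ≤ RingHom.ker φ := by
    rw [relI, Ideal.span_le, Set.insert_subset_iff, Set.singleton_subset_iff]
    refine ⟨?_, ?_⟩
    · simp [φ, relq, hfv]
    · have h := pow_mul_aeval_symPoly hs f v hfv
      rw [hroot] at h
      have : ∀ (k : ℕ) (x : B), f ^ k * x = 0 → x = 0 := fun k => by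
        induction k with
        | zero => simp
        | succ k ih => intro x hx; rw [pow_succ, mul_assoc] at hx; exact hreg x (ih _ hx)
      exact this D _ h
  let φ' : (FV ⧸ relI P q ε D) →ₐ[ℤ] φ.range :=
    Ideal.Quotient.liftₐ _ φ.rangeRestrict fun a ha => Subtype.ext (hle ha)
  have hφ's : Function.Surjective φ' := by
    rintro ⟨_, g, rfl⟩
    exact ⟨Ideal.Quotient.mk _ g, rfl⟩
  let L : (Fin (2 * D) → ℤ) →ₗ[ℤ] φ.range :=
    φ'.toLinearMap ∘ₗ Fintype.linearCombination ℤ (gen P q ε D)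
  have hLs : Function.Surjective L := hφ's.comp fun z => by
    have : z ∈ LinearMap.range (Fintype.linearCombination ℤ (gen P q ε D)) := by
      rw [Fintype.range_linearCombination, span_gen hs]; trivial
    exact this
  let J : (Fin (2 * D) → ℤ) →ₗ[ℤ] φ.range :=
    Fintype.linearCombination ℤ fun i => (φ.rangeRestrict (X 0)) ^ i.val
  have hJi : Function.Injective J := by
    rw [← LinearMap.ker_eq_bot, LinearMap.ker_eq_bot']
    intro c hc
    let G : Polynomial ℤ := ∑ i, Polynomial.C (c i) * Polynomial.X ^ i.val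
    have hdeg : G.degree < (2 * D : ℕ) := Polynomial.degree_sum_fin_lt c
    have hG : Polynomial.aeval f G = 0 := by
      have := congrArg (fun x : φ.range => (x : B)) hc
      simpa [J, G, φ, Fintype.linearCombination_apply, zsmul_eq_mul] using this
    have hG0 : G = 0 := by
      refine Polynomial.eq_zero_of_dvd_of_degree_lt (hind G hG) (lt_of_lt_of_le hdeg ?_)
      rw [Polynomial.degree_eq_natDegree hs.monic.ne_zero, hs.natDegree]
    funext i
    have := congrArg (fun p : Polynomial ℤ => p.coeff i.val) hG0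
    simpa [G, Polynomial.finsetSum_coeff, Polynomial.coeff_C_mul, Polynomial.coeff_X_pow, Fin.val_inj] using this
  haveI : Module.Finite ℤ φ.range := Module.Finite.of_surjective L hLs
  haveI : Module.IsTorsionFree ℤ (Fin (2 * D) → ℤ) := inferInstance
  have h1 : 2 * D ≤ Module.finrank ℤ φ.range := by
    simpa using LinearMap.finrank_le_finrank_of_injective hJi
  have h2 : Module.finrank ℤ φ.range ≤ 2 * D := by
    simpa using L.finrank_le_finrank_of_surjective hLs
  have hrange : Module.finrank ℤ L.range = 2 * D := by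
    rw [LinearMap.range_eq_top.mpr hLs, finrank_top]; omega
  have hker : L.ker = ⊥ := by
    have h4 := L.ker.finrank_quotient_add_finrank
    rw [L.quotKerEquivRange.finrank_eq, hrange, Module.finrank_fin_fun] at h4
    exact Submodule.finrank_eq_zero.mp (by omega)
  have hLi : Function.Injective L := LinearMap.ker_eq_bot.mp hker
  refine ⟨le_antisymm (fun g hg => ?_) hle, ?_, by omega⟩
  · rw [← Ideal.Quotient.eq_zero_iff_mem]
    have : Ideal.Quotient.mk (relI P q ε D) g ∈ LinearMap.range (Fintype.linearCombination ℤ (gen P q ε D)) := by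
      rw [Fintype.range_linearCombination, span_gen hs]; trivial
    obtain ⟨c, hc⟩ := this
    have h0 : L c = 0 := by
      show φ' (Fintype.linearCombination ℤ (gen P q ε D) c) = 0
      rw [hc]
      exact Subtype.ext hg
    rw [← hc, hLi (h0.trans (map_zero L).symm), map_zero]
  · exact Module.Free.of_equiv (LinearEquiv.ofBijective L ⟨hLi, hLs⟩)

end Groth.Agent.H23WeilN
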