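import Mathlib.RingTheory.PicardGroup
import Mathlib.RingTheory.Ideal.Operations
import Mathlib.RingTheory.Localization.FractionRing

/-! # Lifting invertible modules along surjections of one-dimensional reduced rings -/

set_option autoImplicit false

open TensorProduct CommRing

namespace Groth.Agent.H23WeilN

variable {B : Type*} [CommRing B] {L : Type*} [AddCommGroup L] [Module B L] [Module.Invertible B L]

theorem dual_smul_comm (φ : Module.Dual B L) (x y : L) : φ x • y = φ y • x := by
  have h := congrArg (TensorProduct.lift (LinearMap.lsmul B L ∘ₗ φ))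
    (Module.Invertible.tmul_comm (R := B) (m₁ := x) (m₂ := y))
  simpa using h

theorem exists_dual_notMem (M : Ideal B) (hM : M ≠ ⊤) : ∃ (φ : Module.Dual B L) (x : L), φ x ∉ M := by
  by_contra! h
  apply hM
  rw [Ideal.eq_top_iff_one]
  obtain ⟨t, ht⟩ := (Module.Invertible.linearEquiv B L).surjective 1
  rw [← ht]
  clear ht
  induction t using TensorProduct.induction_on with
  | zero => simp
  | tmul φ x => simpa [Module.Invertible.linearEquiv] using h φ x
  | add a b ha hb => rw [map_add]; exact add_mem ha hb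

theorem exists_dual_comaximal (m : B) [Finite (B ⧸ Ideal.span {m})] :
    ∃ (ψ : Module.Dual B L) (x : L) (b : B), ψ x = 1 - b * m := by
  classical
  let S := {M : Ideal B // M.IsMaximal ∧ m ∈ M}
  haveI : Finite S := Finite.of_injective (fun M : S => M.1.map (Ideal.Quotient.mk (Ideal.span {m}))) fun M N h => by
    apply Subtype.ext
    have h' := congrArg (Ideal.comap (Ideal.Quotient.mk (Ideal.span {m}))) h
    simpa [Ideal.comap_map_of_surjective _ Ideal.Quotient.mk_surjective, ← RingHom.ker_eq_comap_bot, M.2.2,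
      N.2.2, Ideal.span_le] using h'
  choose φ x hx using fun M : S => exists_dual_notMem (L := L) M.1 M.2.1.ne_top
  cases nonempty_fintype S
  have hcop : Pairwise (fun i j : S => IsCoprime i.1 j.1) := fun i j hij =>
    Ideal.isCoprime_iff_sup_eq.mpr (i.2.1.coprime_of_ne j.2.1 fun e => hij (Subtype.ext e))
  choose e he using fun M : S => Ideal.exists_forall_sub_mem_ideal hcop (fun N => if N = M then (1 : B) else 0)
  let ψ : Module.Dual B L := ∑ M, e M • φ M
  have hψ : LinearMap.range ψ ⊔ Ideal.span {m} = ⊤ := by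
    by_contra hne
    obtain ⟨M, hM, hle⟩ := Ideal.exists_le_maximal _ hne
    let N : S := ⟨M, hM, hle (Submodule.mem_sup_right (Ideal.mem_span_singleton_self m))⟩
    have h1 : ψ (x N) ∈ M := hle (Submodule.mem_sup_left ⟨_, rfl⟩)
    apply hx N
    have h2 : ψ (x N) - φ N (x N) ∈ M := by
      have : ψ (x N) - φ N (x N) = ∑ M', (e M' - if N = M' then 1 else 0) * φ M' (x N) := by
        simp only [sub_mul, Finset.sum_sub_distrib]
        rw [show ∑ M', e M' * φ M' (x N) = ψ (x N) by simp [ψ]]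
        congr 1
        rw [Finset.sum_eq_single N] <;> simp +contextual [eq_comm]
      rw [this]
      exact sum_mem fun M' _ => M.mul_mem_right _ (he M' N)
    simpa using sub_mem h1 h2
  have h1 : (1 : B) ∈ LinearMap.range ψ ⊔ Ideal.span {m} := hψ ▸ Submodule.mem_top
  obtain ⟨_, ⟨y, rfl⟩, c, hc, hyc⟩ := Submodule.mem_sup.mp h1
  obtain ⟨b, rfl⟩ := Ideal.mem_span_singleton'.mp hc
  exact ⟨ψ, y, b, by linear_combination hyc⟩

theorem invertible_of_mul_eq_span {A : Type*} [CommRing A] (J C : Ideal A) {j : A}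
    (hj : j ∈ nonZeroDivisors A) (h : J * C = Ideal.span {j}) : Module.Invertible A J := by
  let K := FractionRing A
  let u : K := IsLocalization.mk' K 1 (⟨j, hj⟩ : nonZeroDivisors A)
  have hu : algebraMap A K j * u = 1 := by simp [u]
  have hI : IsUnit (IsLocalization.coeSubmodule K J) := by
    refine IsUnit.of_mul_eq_one (IsLocalization.coeSubmodule K C * Submodule.span A {u}) ?_
    rw [← mul_assoc, ← IsLocalization.coeSubmodule_mul, h, IsLocalization.coeSubmodule_span_singleton,
      Submodule.span_mul_span, Set.singleton_mul_singleton, hu]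
    exact Submodule.one_eq_span.symm
  obtain ⟨U, hU⟩ := hI
  haveI : Module.Invertible A (Submodule.map (Algebra.linearMap A K) J) :=
    Module.Invertible.congr (LinearEquiv.ofEq _ _ hU)
  exact Module.Invertible.congr
    (Submodule.equivMapOfInjective (Algebra.linearMap A K) (IsFractionRing.injective A K) J).symm

theorem pic_mapRingHom_surjective {A B B' : Type*} [CommRing A] [CommRing B] [CommRing B']
    (f : A →+* B) (f' : A →+* B') (hf : Function.Surjective f) (hinj : ∀ a, f a = 0 → f' a = 0 → a = 0)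
    (m i : A) (hi : f i = 0) (hi' : f' i = f' m)
    (hreg : ∀ a : A, ∀ x : B, f (1 + m * a) * x = 0 → x = 0)
    (hreg' : ∀ a : A, ∀ x : B', f' (1 + m * a) * x = 0 → x = 0)
    [Finite (B ⧸ Ideal.span {f m})] :
    Function.Surjective (Pic.mapRingHom f) := by
  intro P
  obtain ⟨ψ, l₀, b, hψ⟩ := exists_dual_comaximal (L := P.AsModule) (f m)
  obtain ⟨b₀, rfl⟩ := hf b
  set j₀ : A := 1 - b₀ * m with hj₀
  have hfj : f j₀ = ψ l₀ := by rw [hψ, hj₀, map_sub, map_one, map_mul]
  have hjB : ∀ x : B, ψ l₀ * x = 0 → x = 0 := fun x hx => hreg (-b₀) x (by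
    rwa [show (1 : A) + m * -b₀ = j₀ by rw [hj₀]; ring, hfj])
  have hjB' : ∀ x : B', f' j₀ * x = 0 → x = 0 := fun x hx => hreg' (-b₀) x (by
    rwa [show (1 : A) + m * -b₀ = j₀ by rw [hj₀]; ring])
  have hjA : j₀ ∈ nonZeroDivisors A := by
    rw [mem_nonZeroDivisors_iff_right]
    intro x hx
    rw [mul_comm] at hx
    exact hinj x (hjB _ (by rw [← hfj, ← map_mul, hx, map_zero])) (hjB' _ (by rw [← map_mul, hx, map_zero]))
  have hψinj : Function.Injective ψ := by
    rw [injective_iff_map_eq_zero]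
    intro x hx
    have h0 : ψ l₀ • x = 0 := by rw [dual_smul_comm ψ l₀ x, hx, zero_smul]
    rw [← Module.forall_dual_apply_eq_zero_iff B]
    intro φ
    exact hjB _ (by rw [← smul_eq_mul, ← map_smul, h0, map_zero])
  let JB : Ideal B := LinearMap.range ψ
  let CB : Ideal B := LinearMap.range (Module.Dual.eval B P.AsModule l₀)
  have hJC : JB * CB ≤ Ideal.span {ψ l₀} := Ideal.mul_le.mpr fun _ hr _ hs => by
    obtain ⟨y, rfl⟩ := hr
    obtain ⟨φ, rfl⟩ := hs
    refine Ideal.mem_span_singleton'.mpr ⟨φ y, ?_⟩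
    have h := congrArg φ (dual_smul_comm ψ y l₀)
    simp only [map_smul, smul_eq_mul] at h
    rw [Module.Dual.eval_apply]
    linear_combination -h
  have hjJC : ψ l₀ ∈ JB * CB := by
    have hK : ∀ (φ : Module.Dual B P.AsModule) (y : P.AsModule), φ y * ψ l₀ ∈ JB * CB := fun φ y => by
      have h := congrArg φ (dual_smul_comm ψ y l₀)
      simp only [map_smul, smul_eq_mul] at h
      rw [show φ y * ψ l₀ = ψ y * φ l₀ by linear_combination -h]
      exact Ideal.mul_mem_mul ⟨y, rfl⟩ ⟨φ, rfl⟩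
    obtain ⟨t, ht⟩ := (Module.Invertible.linearEquiv B P.AsModule).surjective 1
    rw [← one_mul (ψ l₀), ← ht]
    clear ht
    induction t using TensorProduct.induction_on with
    | zero => simp
    | tmul φ y => simpa [Module.Invertible.linearEquiv] using hK φ y
    | add a c ha hc => rw [map_add, add_mul]; exact add_mem ha hc
  have hjC : ψ l₀ ∈ CB := ⟨ψ, rfl⟩
  let J : Ideal A := JB.comap f
  let C : Ideal A := CB.comap f ⊓ (Ideal.span {j₀} ⊔ RingHom.ker f')
  have hjJ : j₀ ∈ J := show f j₀ ∈ JB from hfj ▸ ⟨l₀, rfl⟩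
  have hjC₀ : j₀ ∈ C :=
    ⟨show f j₀ ∈ CB from hfj ▸ hjC, Submodule.mem_sup_left (Ideal.mem_span_singleton_self _)⟩
  have hle : J * C ≤ Ideal.span {j₀} := by
    intro a ha
    have hmul : J * C ≤ Ideal.comap f (JB * CB) := Ideal.mul_le.mpr fun r hr s hs => by
      rw [Ideal.mem_comap, map_mul]; exact Ideal.mul_mem_mul hr hs.1
    have h1 : f a ∈ JB * CB := hmul ha
    obtain ⟨x', hx⟩ := Ideal.mem_span_singleton'.mp (hJC h1)
    obtain ⟨x, rfl⟩ := hf x'
    have hmul' : J * C ≤ Ideal.span {j₀} ⊔ RingHom.ker f' :=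
      Ideal.mul_le.mpr fun r _ s hs => Ideal.mul_mem_left _ r hs.2
    obtain ⟨_, hy, z, hz, hyz⟩ := Submodule.mem_sup.mp (hmul' ha)
    obtain ⟨y, rfl⟩ := Ideal.mem_span_singleton'.mp hy
    rw [RingHom.mem_ker] at hz
    -- `a - j₀ x ∈ ker f`, `a - j₀ y ∈ ker f'`; correct `x` modulo `ker f` to match `y` modulo `ker f'`
    refine Ideal.mem_span_singleton'.mpr ⟨x + a - x * j₀ - b₀ * i * (x - y), ?_⟩
    refine sub_eq_zero.mp (hinj _ ?_ ?_)
    · have e1 : f a = f x * f j₀ := by rw [hfj, hx]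
      simp only [map_sub, map_mul, map_add, hi, mul_zero, zero_mul, sub_zero]
      linear_combination (f j₀ - 1) * e1
    · have e2 : f' a = f' y * f' j₀ := by rw [← map_mul, ← hyz, map_add, hz, add_zero]
      have e3 : f' j₀ = 1 - f' b₀ * f' m := by rw [hj₀, map_sub, map_one, map_mul]
      simp only [map_sub, map_mul, map_add, hi']
      linear_combination (f' j₀ - 1) * e2 - f' j₀ * (f' x - f' y) * e3
  have hge : Ideal.span {j₀} ≤ J * C := by
    have hu : j₀ + b₀ * i ∈ J := add_mem hjJ (show f (b₀ * i) ∈ JB by simp [hi])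
    have hC : CB ≤ C.map f := by
      intro c hc
      obtain ⟨c₁, rfl⟩ := hf c
      have : f (c₁ - c₁ * b₀ * i) = f c₁ := by simp [hi]
      rw [← this]
      refine Ideal.mem_map_of_mem _ ⟨show f _ ∈ CB by rw [this]; exact hc, Submodule.mem_sup.mpr
        ⟨c₁ * j₀, Ideal.mul_mem_left _ _ (Ideal.mem_span_singleton_self _), c₁ * b₀ * (m - i), ?_,
          by rw [hj₀]; ring⟩⟩
      rw [RingHom.mem_ker]
      simp [hi']
    have h1 : ψ l₀ ∈ (J * C).map f := by
      rw [Ideal.map_mul]
      exact Ideal.mul_mono (Ideal.map_comap_of_surjective f hf JB).ge hC hjJC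
    obtain ⟨d, hd, hfd⟩ := (Ideal.mem_map_iff_of_surjective f hf).mp h1
    obtain ⟨z, rfl⟩ := Ideal.mem_span_singleton'.mp (hle hd)
    have hfz : f z = 1 := sub_eq_zero.mp <| hjB _ (by
      rw [map_mul, hfj] at hfd
      linear_combination hfd)
    rw [Ideal.span_le, Set.singleton_subset_iff]
    have h2 : (1 - z) * (1 - (j₀ + b₀ * i)) = 0 := hinj _ (by simp [hfz]) (by simp [hj₀, hi'])
    have h3 : j₀ = z * j₀ + (j₀ + b₀ * i) * j₀ * (1 - z) := by linear_combination j₀ * h2
    rw [h3]
    exact add_mem hd (Ideal.mul_mem_right _ _ (Ideal.mul_mem_mul hu hjC₀))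
  haveI := invertible_of_mul_eq_span J C hjA (le_antisymm hle hge)
  refine ⟨Pic.mk A J, ?_⟩
  algebraize [f]
  show Pic.mapAlgebra A B (Pic.mk A J) = P
  rw [Pic.mapAlgebra_apply, ← Pic.mk_eq_self (M := P), Pic.mk_eq_mk_iff]
  let eψ : P.AsModule ≃ₗ[B] JB := LinearEquiv.ofInjective ψ hψinj
  let g : J →ₗ[A] JB :=
    { toFun := fun a => ⟨f a, a.2⟩
      map_add' := fun a c => Subtype.ext (map_add f _ _)
      map_smul' := fun a c => Subtype.ext (map_mul f _ _) }
  haveI : Module.Invertible B JB := Module.Invertible.congr eψ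
  let G : B ⊗[A] J →ₗ[B] JB := LinearMap.liftBaseChange B g
  have hG : Function.Surjective G := by
    rintro ⟨c, hc⟩
    obtain ⟨a, rfl⟩ := hf c
    exact ⟨1 ⊗ₜ[A] ⟨a, hc⟩, by simp [G, g]⟩
  exact ⟨(TensorProduct.AlgebraTensorModule.congr (LinearEquiv.refl B B) (Pic.mk.linearEquiv A J)) ≪≫ₗ
    LinearEquiv.ofBijective G (Module.Invertible.bijective_of_surjective hG) ≪≫ₗ eψ.symm⟩

end Groth.Agent.H23WeilN
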