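import Mathlib

/-! # Unit roots and reduction of a monic integer polynomial -/

set_option autoImplicit false

universe u

open Polynomial

namespace Groth.Agent.H23WeilN

variable {L : Type u} [NormedField L] [IsUltrametricDist L]

/-- The first `m` coefficients are small and the next one is a unit. -/
def Low (m : ℕ) (f : L[X]) : Prop :=
  (∀ i, ‖f.coeff i‖ ≤ 1) ∧ (∀ i < m, ‖f.coeff i‖ < 1) ∧ ‖f.coeff m‖ = 1

theorem norm_sub_le' (a b : L) : ‖a - b‖ ≤ max ‖a‖ ‖b‖ := by
  rw [sub_eq_add_neg, ← norm_neg b]; exact IsUltrametricDist.norm_add_le_max _ _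

theorem low_prod (R : Multiset L) (hR : ∀ z ∈ R, ‖z‖ ≤ 1) :
    Low (R.filter fun z => ¬ ‖z‖ = 1).card (R.map fun z => X - C z).prod := by
  classical
  induction R using Multiset.induction_on with
  | empty =>
    refine ⟨fun i => ?_, fun i hi => absurd hi (by simp), by simp⟩
    rw [Multiset.map_zero, Multiset.prod_zero, coeff_one]
    split_ifs <;> simp
  | cons z R ih =>
    obtain ⟨h1, h2, h3⟩ := ih fun w hw => hR w (Multiset.mem_cons_of_mem hw)
    set f := (R.map fun z => X - C z).prod
    set m := (R.filter fun z => ¬ ‖z‖ = 1).card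
    have hz := hR z (Multiset.mem_cons_self _ _)
    rw [Multiset.map_cons, Multiset.prod_cons]
    have hc : ∀ i, ((X - C z) * f).coeff i = (if i = 0 then 0 else f.coeff (i - 1)) - z * f.coeff i := fun i => by
      rw [sub_mul, coeff_sub, coeff_C_mul]
      rcases i with _ | i <;> simp
    have hle : ∀ i, ‖((X - C z) * f).coeff i‖ ≤ 1 := fun i => by
      rw [hc]
      refine (norm_sub_le' _ _).trans (max_le ?_ ?_)
      · split_ifs
        · simp
        · exact h1 _
      · rw [norm_mul]; exact mul_le_one₀ hz (norm_nonneg _) (h1 i)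
    rw [Multiset.filter_cons]
    by_cases hz1 : ‖z‖ = 1
    · rw [if_neg (not_not.mpr hz1), zero_add]
      refine ⟨hle, fun i hi => ?_, ?_⟩
      · rw [hc]
        refine lt_of_le_of_lt (norm_sub_le' _ _) (max_lt ?_ ?_)
        · split_ifs
          · simp
          · exact h2 _ (by omega)
        · rw [norm_mul, hz1, one_mul]; exact h2 i hi
      · have hsmall : ‖if m = 0 then 0 else f.coeff (m - 1)‖ < 1 := by
          split_ifs
          · simp
          · exact h2 _ (by omega)
        rw [hc, sub_eq_add_neg, IsUltrametricDist.norm_add_eq_max_of_norm_ne_norm] <;>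
          rw [norm_neg, norm_mul, hz1, h3, mul_one]
        · exact max_eq_right hsmall.le
        · exact hsmall.ne
    · have hz1' : ‖z‖ < 1 := lt_of_le_of_ne hz hz1
      rw [if_pos hz1, Multiset.singleton_add, Multiset.card_cons]
      refine ⟨hle, fun i hi => ?_, ?_⟩
      · rw [hc]
        refine lt_of_le_of_lt (norm_sub_le' _ _) (max_lt ?_ ?_)
        · split_ifs
          · simp
          · exact h2 _ (by omega)
        · rw [norm_mul]; exact mul_lt_one_of_nonneg_of_lt_one_left (norm_nonneg _) hz1' (h1 i)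
      · have hsmall : ‖z * f.coeff (m + 1)‖ < 1 := by
          rw [norm_mul]; exact mul_lt_one_of_nonneg_of_lt_one_left (norm_nonneg _) hz1' (h1 _)
        rw [hc, if_neg (Nat.succ_ne_zero _), Nat.add_sub_cancel, sub_eq_add_neg,
          IsUltrametricDist.norm_add_eq_max_of_norm_ne_norm] <;> rw [norm_neg, h3]
        · exact max_eq_left hsmall.le
        · exact hsmall.ne'

theorem norm_root_le_one {f : ℤ[X]} (hf : f.Monic) {z : L} (hz : aeval z f = 0) : ‖z‖ ≤ 1 := by
  by_contra hlt
  push Not at hlt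
  rw [aeval_eq_sum_range, Finset.sum_range_succ, hf.coeff_natDegree, one_smul, add_eq_zero_iff_eq_neg'] at hz
  have hn : f.natDegree ≠ 0 := fun h0 => by simp [h0] at hz
  have h1 : ‖z ^ f.natDegree‖ ≤ ‖z‖ ^ (f.natDegree - 1) := by
    rw [hz, norm_neg]
    refine IsUltrametricDist.norm_sum_le_of_forall_le_of_nonneg (pow_nonneg (norm_nonneg _) _) fun i hi => ?_
    rw [zsmul_eq_mul, norm_mul, norm_pow]
    calc ‖((f.coeff i : ℤ) : L)‖ * ‖z‖ ^ i ≤ 1 * ‖z‖ ^ i :=
          mul_le_mul_of_nonneg_right (IsUltrametricDist.norm_intCast_le_one L _) (pow_nonneg (norm_nonneg _) _)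
      _ ≤ ‖z‖ ^ (f.natDegree - 1) := by
          rw [one_mul]
          exact pow_le_pow_right₀ hlt.le (by rw [Finset.mem_range] at hi; omega)
  rw [norm_pow] at h1
  exact absurd h1 (not_le.mpr (pow_lt_pow_right₀ hlt (by omega)))

theorem norm_intCast_padic (p : ℕ) [Fact p.Prime] (a : ℤ) : ‖(a : PadicAlgCl p)‖ < 1 ↔ (p : ℤ) ∣ a := by
  have h := PadicAlgCl.norm_extends p (a : ℚ_[p])
  simp only [map_intCast] at h
  rw [h]
  exact Padic.norm_intCast_lt_one_iff

theorem exists_low (p : ℕ) [Fact p.Prime] {f : ℤ[X]} (hf : f.Monic) :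
    ∃ m, m + Multiset.card ((f.aroots (PadicAlgCl p)).filter fun z => ‖z‖ = 1) = f.natDegree ∧
      (∀ i < m, (p : ℤ) ∣ f.coeff i) ∧ ¬ (p : ℤ) ∣ f.coeff m := by
  classical
  set R := f.aroots (PadicAlgCl p) with hR
  set fC := f.map (algebraMap ℤ (PadicAlgCl p)) with hfC
  have hsplit : fC.Splits := IsAlgClosed.splits fC
  have hinj : Function.Injective (algebraMap ℤ (PadicAlgCl p)) := (algebraMap ℤ (PadicAlgCl p)).injective_int
  have hprod : fC = (R.map fun z => X - C z).prod := hsplit.eq_prod_roots_of_monic (hf.map _)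
  obtain ⟨h1, h2, h3⟩ := low_prod R fun z hz => norm_root_le_one hf (mem_aroots.mp hz).2
  rw [← hprod] at h1 h2 h3
  simp only [hfC, coeff_map, eq_intCast] at h2 h3
  refine ⟨_, ?_, fun i hi => (norm_intCast_padic p _).mp (h2 i hi), fun hd => absurd h3 ((norm_intCast_padic p _).mpr hd).ne⟩
  rw [← Multiset.card_add, add_comm, Multiset.filter_add_not, hR, aroots_def, ← hfC,
    ← hsplit.natDegree_eq_card_roots, hfC, natDegree_map_eq_of_injective hinj]

theorem ordinary_iff (p e : ℕ) [Fact p.Prime] (he : 0 < e) {f : ℤ[X]} (hf : f.Monic) (hev : Even f.natDegree)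
    (hs : ∀ r ≤ f.natDegree / 2, f.coeff (f.natDegree / 2 - r) = (p : ℤ) ^ (e * r) * f.coeff (f.natDegree / 2 + r)) :
    2 * Multiset.card ((f.aroots (PadicAlgCl p)).filter fun z => ‖z‖ = 1) = f.natDegree ↔
      ¬ (p : ℤ) ∣ f.coeff (f.natDegree / 2) := by
  obtain ⟨m, hm, hlt, hu⟩ := exists_low p hf
  obtain ⟨d, hd⟩ := hev
  have hd2 : f.natDegree / 2 = d := by omega
  rw [hd2] at hs ⊢
  have hge : d ≤ m := by
    by_contra hlt'
    push Not at hlt'
    refine hu ?_
    have := hs (d - m) (by omega)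
    rw [show d - (d - m) = m by omega] at this
    rw [this]
    exact Dvd.dvd.mul_right (dvd_pow_self _ (Nat.mul_ne_zero he.ne' (by omega))) _
  constructor
  · intro h hdvd
    exact hu ((show m = d by omega) ▸ hdvd)
  · intro h
    have : ¬ d < m := fun hlt' => h (hlt d hlt')
    omega

end Groth.Agent.H23WeilN
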