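import Groth.Agent.H23WeilN.Gor
import Groth.Agent.H23WeilN.Slopes
import Groth.Agent.H4Goren.Hull

/-! # The order of a family enlarged by a rational Weil number -/

set_option autoImplicit false

universe u

open MvPolynomial

namespace Groth.Agent.H23WeilN

/-- Symmetric polynomials of Weil polynomials have slope at least `1/2` of their roots non-units. -/
theorem half_le {p e : ℕ} [Fact p.Prime] (he : 0 < e) {P : Polynomial ℤ} {ε : ℤ} {D : ℕ}
    (hs : IsSym P ((p : ℤ) ^ e) D ε) {m : ℕ} (hu : ¬ (p : ℤ) ∣ P.coeff m) : D ≤ m := by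
  by_contra hlt
  push Not at hlt
  refine hu ?_
  rw [show m = D - (D - m) by omega, hs.coeff (D - m) (by omega), ← pow_mul]
  exact Dvd.dvd.mul_right (Dvd.dvd.mul_left (dvd_pow_self _ (Nat.mul_ne_zero he.ne' (by omega))) _) _

theorem sub_eval_mem (a b : FV) (g : FV) : g - aeval ![a, b] g ∈ Ideal.span {X 0 - a, X 1 - b} := by
  induction g using MvPolynomial.induction_on with
  | C r => simp
  | add x y hx hy => rw [map_add, add_sub_add_comm]; exact add_mem hx hy
  | mul_X x i hx =>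
    rw [map_mul, aeval_X, show x * (X i : FV) - aeval ![a, b] x * (![a, b] i) =
      (x - aeval ![a, b] x) * (X i : FV) + aeval ![a, b] x * ((X i : FV) - ![a, b] i) by ring]
    refine add_mem (Ideal.mul_mem_right _ _ hx) (Ideal.mul_mem_left _ _ ?_)
    fin_cases i <;> exact Ideal.subset_span (by simp)

theorem regular_lin (s : ℤ) : RingTheory.Sequence.IsWeaklyRegular FV ([X 0 - C s, X 1 - C s] : List FV) := by
  refine ⟨fun i hi => ?_⟩
  rw [isSMulRegular_quotient_iff_mem_of_smul_mem]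
  match i, hi with
  | 0, _ =>
    intro x hx
    have key : (Ideal.ofList ([] : List FV) • ⊤ : Submodule FV FV) = ⊥ := by simp
    simp only [List.getElem_cons_zero, List.take_zero] at hx ⊢
    rw [key, Submodule.mem_bot, smul_eq_mul, mul_eq_zero] at hx
    rw [key, Submodule.mem_bot]
    refine hx.resolve_left fun h0 => ?_
    have h1 := congrArg (aeval ![s + 1, (0 : ℤ)]) h0
    simp at h1
  | 1, _ =>
    intro x hx
    simp only [List.getElem_cons_succ, List.getElem_cons_zero, List.take_succ_cons, List.take_zero,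
      Ideal.ofList_singleton, Ideal.smul_eq_mul, Ideal.mul_top, smul_eq_mul] at hx ⊢
    obtain ⟨k, hk⟩ := Ideal.mem_span_singleton'.mp hx
    have h0 : aeval ![(C s : FV), X 1] x = 0 := by
      have h1 := congrArg (aeval ![(C s : FV), X 1]) hk
      simp at h1
      refine h1.resolve_left fun h2 => ?_
      have h3 := congrArg (aeval ![(0 : ℤ), s + 1]) h2
      simp at h3
    have h2 := sub_eval_mem (C s) (X 1) x
    rw [h0, sub_zero, sub_self, Ideal.span_pair_zero] at h2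
    exact h2

/-- Kernel after adjoining the rational point `(s, s)`. -/
theorem mem_ker_twist_iff {s q : ℤ} (hq : q = s ^ 2) {h : FV} (hne : aeval ![s, s] h ≠ 0) (g : FV) :
    g ∈ Ideal.span {relq q, h} ∧ aeval ![s, s] g = 0 ↔
      g ∈ Ideal.span {relq q, h * (X 0 - C s), h * (X 1 - C s)} := by
  have hr : aeval ![s, s] (relq q) = 0 := by simp [relq, hq, sq]
  constructor
  · rintro ⟨h1, h2⟩
    obtain ⟨a, b, rfl⟩ := Ideal.mem_span_pair.mp h1
    rw [map_add, map_mul, map_mul, hr, mul_zero, zero_add, mul_eq_zero] at h2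
    have h3 := sub_eval_mem (C s) (C s) b
    have h4 : aeval ![(C s : FV), C s] b = C (aeval ![s, s] b) := by
      refine RingHom.congr_fun (f := (aeval ![(C s : FV), C s]).toRingHom)
        (g := (C : ℤ →+* FV).comp (aeval ![s, s]).toRingHom) (MvPolynomial.ringHom_ext (by simp) fun i => ?_) b
      fin_cases i <;> simp
    rw [h4, h2.resolve_right hne, map_zero, sub_zero] at h3
    obtain ⟨c, d, rfl⟩ := Ideal.mem_span_pair.mp h3
    refine Submodule.mem_span_triple.mpr ⟨a, c, d, ?_⟩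
    simp only [smul_eq_mul]
    ring
  · intro h1
    obtain ⟨a, b, c, rfl⟩ := Submodule.mem_span_triple.mp h1
    refine ⟨Ideal.mem_span_pair.mpr ⟨a, b * (X 0 - C s) + c * (X 1 - C s), by simp only [smul_eq_mul]; ring⟩, ?_⟩
    simp only [smul_eq_mul, map_add, map_mul, hr, map_sub, aeval_X, aeval_C]
    simp

theorem isGorensteinRing_twist {B : Type u} [CommRing B] (φ : FV →ₐ[ℤ] B) {p : ℕ} {s q : ℤ} (hq : q = s ^ 2)
    (hq0 : q ≠ 0) (hsp : ∀ P : Ideal FV, P.IsPrime → C s ∈ P → C (p : ℤ) ∈ P) {h : FV}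
    (hh : h ∉ Ideal.span {relq q})
    (hker : RingHom.ker φ = Ideal.span {relq q, h * (X 0 - C s), h * (X 1 - C s)})
    (hord : ¬ (p : ℤ) ∣ aeval ![(0 : ℤ), 0] h) (hp : p.Prime) : LocCoh.IsGorensteinRing φ.range := by
  refine isGorensteinRing_range φ fun P hP hle => ?_
  haveI := hP
  have hmem : ∀ a, a ∈ RingHom.ker φ → ∃ x y z, a = x * relq q + y * (h * (X 0 - C s)) + z * (h * (X 1 - C s)) :=
    fun a ha => by
      rw [hker] at ha
      obtain ⟨x, y, z, rfl⟩ := Submodule.mem_span_triple.mp ha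
      exact ⟨x, y, z, rfl⟩
  have hin : ∀ x y z, x * relq q + y * (h * (X 0 - C s)) + z * (h * (X 1 - C s)) ∈ RingHom.ker φ := fun x y z =>
    hker.ge (Submodule.mem_span_triple.mpr ⟨x, y, z, rfl⟩)
  have hlin : X 0 - C s ∉ Ideal.span {relq q} := fun hm => by
    have := eq_zero_of_aeval_mem hq0 (G := Polynomial.X - Polynomial.C s) (by simpa using hm)
    exact Polynomial.X_sub_C_ne_zero s this
  have hreg : RingTheory.Sequence.IsWeaklyRegular FV [relq q, h * (X 0 - C s)] :=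
    regular_pair hq0 fun hm => (mul_mem_span_relq hq0 hm).elim hh hlin
  have hle' : Ideal.ofList [relq q, h * (X 0 - C s)] ≤ RingHom.ker φ := by
    rw [ofList_pair, hker]
    exact Ideal.span_mono (by grind)
  by_cases hV : X 1 - C s ∈ P
  swap
  · have hlin' : X 1 - C s ∉ Ideal.span {relq q} := fun hm => by
      have h1 := sub_mem (Ideal.mul_mem_left _ (X 0 : FV) hm) (Ideal.subset_span rfl : relq q ∈ Ideal.span {relq q})
      have := eq_zero_of_aeval_mem hq0 (G := Polynomial.C q - Polynomial.C s * Polynomial.X) (by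
        convert h1 using 1
        simp [relq]; ring)
      have h2 := congrArg (fun G => Polynomial.coeff G 0) this
      simp at h2
      exact hq0 h2
    refine ⟨[relq q, h * (X 1 - C s)], regular_pair hq0 (fun hm => (mul_mem_span_relq hq0 hm).elim hh hlin'),
      X 1 - C s, hV, fun r hr => Ideal.mul_mem_left _ _ ?_, fun a ha => ?_⟩
    · rw [hker]
      exact Ideal.subset_span (by simp only [List.mem_cons, List.not_mem_nil, or_false] at hr; rcases hr with rfl | rfl <;> simp)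
    · obtain ⟨x, y, z, rfl⟩ := hmem a ha
      rw [ofList_pair]
      exact Ideal.mem_span_pair.mpr ⟨(X 1 - C s) * x, (X 1 - C s) * z + y * (X 0 - C s), by ring⟩
  by_cases hF : X 0 - C s ∈ P
  swap
  · refine ⟨_, hreg, X 0 - C s, hF, fun r hr => Ideal.mul_mem_left _ _ (hle' (Ideal.subset_span hr)), fun a ha => ?_⟩
    obtain ⟨x, y, z, rfl⟩ := hmem a ha
    rw [ofList_pair]
    exact Ideal.mem_span_pair.mpr ⟨(X 0 - C s) * x, (X 0 - C s) * y + z * (X 1 - C s), by ring⟩
  by_cases hhP : h ∈ P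
  swap
  · refine ⟨_, regular_lin s, h, hhP, fun r hr => ?_, fun a ha => ?_⟩
    · simp only [List.mem_cons, List.not_mem_nil, or_false] at hr
      rcases hr with rfl | rfl
      · have := hin 0 1 0; simpa using this
      · have := hin 0 0 1; simpa using this
    · obtain ⟨x, y, z, rfl⟩ := hmem a ha
      rw [ofList_pair]
      exact Ideal.mem_span_pair.mpr ⟨h * (x * C s + y * h), h * (x * X 0 + z * h), by
        simp only [relq, hq, map_pow]; ring⟩
  by_cases hs : C s ∈ P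
  swap
  · have hX : X 0 ∉ P := fun hX => hs (by have := sub_mem hX hF; rwa [sub_sub_cancel] at this)
    refine ⟨_, hreg, X 0, hX, fun r hr => Ideal.mul_mem_left _ _ (hle' (Ideal.subset_span hr)), fun a ha => ?_⟩
    obtain ⟨x, y, z, rfl⟩ := hmem a ha
    rw [ofList_pair]
    exact Ideal.mem_span_pair.mpr ⟨X 0 * x + z * h, X 0 * y - z * C s, by
      simp only [relq, hq, map_pow]; ring⟩
  exfalso
  have hX : X 0 ∈ P := by have := add_mem hF hs; rwa [sub_add_cancel] at this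
  have hpP := hsp P hP hs
  have hY : X 1 ∈ P := by have := add_mem hV hs; rwa [sub_add_cancel] at this
  have hd := sub_eval_mem 0 0 h
  have h4 : aeval ![(0 : FV), 0] h = C (aeval ![(0 : ℤ), 0] h) := by
    refine RingHom.congr_fun (f := (aeval ![(0 : FV), 0]).toRingHom)
      (g := (C : ℤ →+* FV).comp (aeval ![(0 : ℤ), 0]).toRingHom) (MvPolynomial.ringHom_ext (by simp) fun i => ?_) h
    fin_cases i <;> simp
  rw [h4, sub_zero, sub_zero] at hd
  have hc : C (aeval ![(0 : ℤ), 0] h) ∈ P := by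
    have h5 : h - C (aeval ![(0 : ℤ), 0] h) ∈ P := (Ideal.span_le.mpr (by
      simp only [Set.insert_subset_iff, Set.singleton_subset_iff]; exact ⟨hX, hY⟩)) hd
    have := sub_mem hhP h5
    rwa [sub_sub_cancel] at this
  obtain ⟨a, b, hab⟩ := ((Nat.prime_iff_prime_int.mp hp).coprime_iff_not_dvd.mpr hord)
  refine hP.ne_top ((Ideal.eq_top_iff_one _).mpr ?_)
  rw [← map_one (C : ℤ →+* FV), ← hab, map_add, map_mul, map_mul]
  exact add_mem (Ideal.mul_mem_left _ _ hpP) (Ideal.mul_mem_left _ _ hc)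

section NotGor

open IsLocalRing

/-- Two independent socle elements in a reduction obstruct the Gorenstein property. -/
theorem not_gorenstein_core {A : Type u} [CommRing A] [LocCoh.IsGorensteinLocalRing A] {f v p₀ : A} {r : ℕ}
    (hmax : maximalIdeal A = Ideal.span {f, v, p₀}) (hreg : IsSMulRegular A p₀) (hr : 1 ≤ r)
    (hf : f ^ (r + 1) ∈ Ideal.span {p₀}) (hv : v ^ (r + 1) ∈ Ideal.span {p₀}) (hfv : f * v ∈ Ideal.span {p₀})
    (hy : v ^ r ∉ Ideal.span {p₀}) (hx : f ^ r ∉ Ideal.span {v ^ r, p₀}) : False := by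
  have hpm : p₀ ∈ maximalIdeal A := by rw [hmax]; exact Ideal.subset_span (by simp)
  haveI hQ := (H4Goren.isGorensteinLocalRing_quotient_iff hpm hreg).1 ‹_›
  let Q := A ⧸ Ideal.span {p₀}
  let π : A →+* Q := Ideal.Quotient.mk _
  have hm : maximalIdeal Q = Ideal.span {π f, π v} := by
    rw [← IsLocalRing.map_maximalIdeal_of_surjective π Ideal.Quotient.mk_surjective, hmax, Ideal.map_span]
    have h0 : π p₀ = 0 := Ideal.Quotient.eq_zero_iff_mem.mpr (Ideal.subset_span rfl)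
    simp only [Set.image_insert_eq, Set.image_singleton, h0]
    refine le_antisymm (Ideal.span_le.mpr ?_) (Ideal.span_mono ?_)
    · rintro x (rfl | rfl | rfl)
      · exact Ideal.subset_span (by simp)
      · exact Ideal.subset_span (by simp)
      · exact zero_mem _
    · rintro x (rfl | rfl) <;> simp
  have zf : π f ^ (r + 1) = 0 := by rw [← map_pow]; exact Ideal.Quotient.eq_zero_iff_mem.mpr hf
  have zv : π v ^ (r + 1) = 0 := by rw [← map_pow]; exact Ideal.Quotient.eq_zero_iff_mem.mpr hv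
  have zfv : π f * π v = 0 := by rw [← map_mul]; exact Ideal.Quotient.eq_zero_iff_mem.mpr hfv
  have hsoc : ∀ w ∈ ({π f ^ r, π v ^ r} : Set Q), ∀ a ∈ maximalIdeal Q, a * w = 0 := by
    intro w hw a ha
    rw [hm] at ha
    obtain ⟨c, d, rfl⟩ := Ideal.mem_span_pair.mp ha
    obtain ⟨j, rfl⟩ : ∃ j, r = j + 1 := ⟨r - 1, by omega⟩
    rcases hw with rfl | rfl
    · linear_combination c * zf + d * π f ^ j * zfv
    · linear_combination c * π v ^ j * zfv + d * zv
  have hdim : ringKrullDim Q = (0 : ℕ) := by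
    haveI : Ring.KrullDimLE 0 Q := by
      refine Ring.KrullDimLE.mk₀ fun P hP => ?_
      haveI := hP
      have : maximalIdeal Q ≤ P := by
        rw [hm, Ideal.span_le, Set.insert_subset_iff, Set.singleton_subset_iff]
        exact ⟨hP.mem_of_pow_mem _ (zf ▸ P.zero_mem), hP.mem_of_pow_mem _ (zv ▸ P.zero_mem)⟩
      rw [← le_antisymm this (le_maximalIdeal hP.ne_top)]
      infer_instance
    exact_mod_cast ringKrullDimZero_iff_ringKrullDim_eq_zero.mp ‹Ring.KrullDimLE 0 Q›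
  obtain ⟨k, hk, hk', hE⟩ := H4Goren.depth_eq_ringKrullDim Q
  obtain rfl : k = 0 := by exact_mod_cast hk'.symm.trans hdim
  have hinj := H4Goren.injective_self_of_depth_eq_zero hk hE
  have hy0 : π v ^ r ≠ 0 := by rw [← map_pow]; exact fun h => hy (Ideal.Quotient.eq_zero_iff_mem.mp h)
  let g₁ : Q →ₗ[Q] Q := LinearMap.toSpanSingleton Q Q (π v ^ r)
  let g₂ : Q →ₗ[Q] Q := LinearMap.toSpanSingleton Q Q (π f ^ r)
  have hle : LinearMap.ker g₁ ≤ LinearMap.ker g₂ := fun c hc => by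
    have hc' : c * π v ^ r = 0 := hc
    show c * π f ^ r = 0
    refine hsoc _ (Set.mem_insert _ _) c ?_
    by_contra hu
    exact hy0 ((IsLocalRing.notMem_maximalIdeal.mp hu).mul_right_eq_zero.mp hc')
  let φ : LinearMap.range g₁ →ₗ[Q] Q := (g₁.ker.liftQ g₂ hle) ∘ₗ g₁.quotKerEquivRange.symm.toLinearMap
  obtain ⟨ξ, hξ⟩ := hinj.out (LinearMap.range g₁).subtype (Submodule.subtype_injective _) φ
  have h1 : ξ (π v ^ r) = π f ^ r := by
    have h2 := hξ ⟨g₁ 1, ⟨1, rfl⟩⟩
    have h3 : g₁.quotKerEquivRange.symm ⟨g₁ 1, ⟨1, rfl⟩⟩ = Submodule.Quotient.mk 1 :=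
      g₁.quotKerEquivRange.symm_apply_eq.mpr rfl
    simp only [φ, LinearMap.comp_apply, LinearEquiv.coe_coe, h3, Submodule.liftQ_apply, Submodule.subtype_apply] at h2
    simpa [g₁, g₂] using h2
  rw [← mul_one (π v ^ r), ← smul_eq_mul, map_smul, smul_eq_mul] at h1
  obtain ⟨a, ha⟩ := Ideal.Quotient.mk_surjective (ξ 1)
  rw [← ha, ← map_pow, ← map_pow, ← map_mul] at h1
  obtain ⟨b, hb⟩ := Ideal.mem_span_singleton'.mp (Ideal.Quotient.eq.mp h1.symm)
  exact hx (Ideal.mem_span_pair.mpr ⟨a, b, by linear_combination hb⟩)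

end NotGor

section NotGorTwist

open IsLocalRing

theorem pow_eq_zero_of_rel {Q : Type u} [CommRing Q] [IsLocalRing Q] {x : Q} (hx : x ∈ maximalIdeal Q) {r D : ℕ}
    (hr : r ≤ D) (c : ℕ → Q) (hc0 : ∀ k < r, c k = 0) (hcr : IsUnit (c r))
    (h0 : ∑ k ∈ Finset.range (D + 1), c k * x ^ (k + 1) = 0) : x ^ (r + 1) = 0 := by
  rw [show D + 1 = r + ((D - r) + 1) by omega, Finset.sum_range_add,
    Finset.sum_eq_zero (fun k hk => by rw [hc0 k (Finset.mem_range.mp hk), zero_mul]), zero_add] at h0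
  have h1 : (∑ j ∈ Finset.range ((D - r) + 1), c (r + j) * x ^ j) * x ^ (r + 1) = 0 := by
    rw [← h0, Finset.sum_mul]
    exact Finset.sum_congr rfl fun j _ => by rw [mul_assoc, ← pow_add]; congr 2; omega
  refine (IsUnit.mul_right_eq_zero ?_).mp h1
  rw [Finset.sum_range_succ']
  refine IsLocalRing.notMem_maximalIdeal.mp fun hm => IsLocalRing.notMem_maximalIdeal.mpr hcr ?_
  have h2 : ∑ k ∈ Finset.range (D - r), c (r + (k + 1)) * x ^ (k + 1) ∈ maximalIdeal Q :=
    Ideal.sum_mem _ fun k _ => Ideal.mul_mem_left _ _ (Ideal.pow_mem_of_mem _ hx _ (Nat.succ_pos _))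
  have h3 := sub_mem hm h2
  simpa using h3

theorem aeval_symPoly {T : Type u} [CommRing T] (x y : T) (P : Polynomial ℤ) (D : ℕ) (ε : ℤ) :
    aeval ![x, y] (symPoly P D ε) = (∑ k ∈ Finset.range (D + 1), (P.coeff (D + k) : T) * x ^ k) +
      ∑ k ∈ Finset.range D, ((ε * P.coeff (D + k + 1) : ℤ) : T) * y ^ (k + 1) := by
  simp [symPoly, map_sum]

theorem intCast_eq_zero {T : Type u} [CommRing T] {p : ℕ} (hp0 : (p : T) = 0) {x : ℤ} (hx : (p : ℤ) ∣ x) :
    (x : T) = 0 := by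
  obtain ⟨c, rfl⟩ := hx
  push_cast
  rw [hp0, zero_mul]

/-- The two products killing the symmetric polynomial, expanded. -/
theorem mul_symPoly {T : Type u} [CommRing T] {p : ℕ} (hp0 : (p : T) = 0) {x y : T} (hxy : x * y = 0)
    {P : Polynomial ℤ} {D : ℕ} {ε : ℤ} (hD : (p : ℤ) ∣ P.coeff D) :
    x * aeval ![x, y] (symPoly P D ε) = (∑ k ∈ Finset.range (D + 1), (P.coeff (D + k) : T) * x ^ (k + 1)) ∧
      y * aeval ![x, y] (symPoly P D ε) =
        ∑ k ∈ Finset.range (D + 1), ((ε * P.coeff (D + k) : ℤ) : T) * y ^ (k + 1) := by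
  rw [aeval_symPoly, mul_add, mul_add, Finset.mul_sum, Finset.mul_sum, Finset.mul_sum, Finset.mul_sum]
  constructor
  · have h0 : ∑ k ∈ Finset.range D, x * (((ε * P.coeff (D + k + 1) : ℤ) : T) * y ^ (k + 1)) = 0 :=
      Finset.sum_eq_zero fun k _ => by linear_combination (((ε * P.coeff (D + k + 1) : ℤ) : T) * y ^ k) * hxy
    rw [h0, add_zero]
    exact Finset.sum_congr rfl fun k _ => by ring
  · rw [Finset.sum_eq_zero (s := Finset.range (D + 1)) fun k _ => ?_, zero_add, Finset.sum_range_succ' _ D]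
    · simp only [Nat.add_zero, intCast_eq_zero hp0 (Dvd.dvd.mul_left hD ε), zero_mul, add_zero]
      exact Finset.sum_congr rfl fun k _ => by rw [← add_assoc]; ring
    · rcases k with _ | k
      · rw [Nat.add_zero, intCast_eq_zero hp0 hD, zero_mul, mul_zero]
      · rw [pow_succ']; linear_combination (P.coeff (D + (k + 1)) : T) * x ^ k * hxy

theorem socle_rel {Q : Type u} [CommRing Q] [IsLocalRing Q] {p : ℕ} [Fact p.Prime] (hp0 : (p : Q) = 0) {x y : Q}
    (hx : x ∈ maximalIdeal Q) (hy : y ∈ maximalIdeal Q) (hxy : x * y = 0)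
    {P : Polynomial ℤ} {D r : ℕ} {ε : ℤ} (hεε : ε * ε = 1) (hD : (p : ℤ) ∣ P.coeff D) (hrD : r ≤ D)
    (hr : ¬ (p : ℤ) ∣ P.coeff (D + r)) (hrmin : ∀ k < r, (p : ℤ) ∣ P.coeff (D + k))
    (h0x : x * aeval ![x, y] (symPoly P D ε) = 0) (h0y : y * aeval ![x, y] (symPoly P D ε) = 0) :
    x ^ (r + 1) = 0 ∧ y ^ (r + 1) = 0 := by
  obtain ⟨e1, e2⟩ := mul_symPoly hp0 hxy hD (ε := ε)
  rw [e1] at h0x
  rw [e2] at h0y
  have hu : IsUnit (P.coeff (D + r) : Q) := by
    obtain ⟨u, w, huw⟩ := (Nat.prime_iff_prime_int.mp (Fact.out : p.Prime)).coprime_iff_not_dvd.mpr hr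
    refine IsUnit.of_mul_eq_one (w : Q) ?_
    have := congrArg (fun z : ℤ => (z : Q)) huw
    push_cast at this
    rw [hp0, mul_zero, zero_add] at this
    rw [mul_comm]; exact this
  have hεu : IsUnit (ε : Q) := IsUnit.of_mul_eq_one (ε : Q) (by rw [← Int.cast_mul, hεε, Int.cast_one])
  exact ⟨pow_eq_zero_of_rel hx hrD (fun k => (P.coeff (D + k) : Q)) (fun k hk => intCast_eq_zero hp0 (hrmin k hk)) hu h0x,
    pow_eq_zero_of_rel hy hrD (fun k => ((ε * P.coeff (D + k) : ℤ) : Q))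
      (fun k hk => intCast_eq_zero hp0 (Dvd.dvd.mul_left (hrmin k hk) ε))
      (by rw [Int.cast_mul]; exact hεu.mul hu) h0y⟩

theorem sub_C_eval_mem (g : FV) : g - C (aeval ![(0 : ℤ), 0] g) ∈ Ideal.span {(X 0 : FV), X 1} := by
  have h1 := sub_eval_mem 0 0 g
  rw [sub_zero, sub_zero] at h1
  have h4 : aeval ![(0 : FV), 0] g = C (aeval ![(0 : ℤ), 0] g) := by
    refine RingHom.congr_fun (f := (aeval ![(0 : FV), 0]).toRingHom)
      (g := (C : ℤ →+* FV).comp (aeval ![(0 : ℤ), 0]).toRingHom) (MvPolynomial.ringHom_ext (by simp) fun i => ?_) g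
    fin_cases i <;> simp
  rwa [h4] at h1

theorem eval_cast {p : ℕ} (g : FV) :
    ((aeval ![(0 : ℤ), 0] g : ℤ) : ZMod p) = aeval ![(0 : ZMod p), 0] g := by
  refine RingHom.congr_fun (f := (Int.castRingHom (ZMod p)).comp (aeval ![(0 : ℤ), 0]).toRingHom)
    (g := (aeval ![(0 : ZMod p), 0]).toRingHom) (MvPolynomial.ringHom_ext (by simp) fun i => ?_) g
  fin_cases i <;> simp

/-- A homomorphism out of the local ring at `(F, V, p)`. -/
theorem exists_detect {R : Type u} [CommRing R] (ρ : FV →+* R) (hρ : Function.Surjective ρ) (p : ℕ) [Fact p.Prime]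
    [(Ideal.map ρ (RingHom.ker (aeval ![(0 : ZMod p), 0] : FV →ₐ[ℤ] ZMod p))).IsPrime]
    {T : Type} [CommRing T] (hpT : (p : T) = 0) (x y : T) (hx : IsNilpotent x) (hy : IsNilpotent y)
    (hker : ∀ g ∈ RingHom.ker ρ, aeval ![x, y] g = 0) :
    ∃ Θ : Localization.AtPrime (Ideal.map ρ (RingHom.ker (aeval ![(0 : ZMod p), 0] : FV →ₐ[ℤ] ZMod p))) →+* T,
      ∀ g, Θ (algebraMap R _ (ρ g)) = aeval ![x, y] g := by
  let θ : FV →ₐ[ℤ] T := aeval ![x, y]
  let θ' : R →+* T := ρ.liftOfSurjective hρ ⟨θ.toRingHom, fun g hg => hker g hg⟩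
  have hθ' : ∀ g, θ' (ρ g) = θ g := fun g => ρ.liftOfRightInverse_comp_apply _ _ _ g
  have hu : ∀ t : (Ideal.map ρ (RingHom.ker (aeval ![(0 : ZMod p), 0] : FV →ₐ[ℤ] ZMod p))).primeCompl,
      IsUnit (θ' t) := by
    rintro ⟨t, ht⟩
    obtain ⟨g, rfl⟩ := hρ t
    rw [hθ']
    have hg : (aeval ![(0 : ZMod p), 0] g : ZMod p) ≠ 0 := fun hg => ht (Ideal.mem_map_of_mem _ hg)
    rw [← eval_cast] at hg
    obtain ⟨u, w, huw⟩ := Ideal.mem_span_pair.mp (sub_C_eval_mem g)
    have h6 : θ g = ((aeval ![(0 : ℤ), 0] g : ℤ) : T) + (θ u * x + θ w * y) := by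
      have := congrArg θ huw
      rw [map_add, map_mul, map_mul, map_sub] at this
      simp only [θ, aeval_X, Matrix.cons_val_zero, Matrix.cons_val_one, aeval_C, eq_intCast, map_intCast] at this ⊢
      linear_combination -this
    have hc : IsUnit ((aeval ![(0 : ℤ), 0] g : ℤ) : T) := by
      obtain ⟨a, b, hab⟩ := (Nat.prime_iff_prime_int.mp (Fact.out : p.Prime)).coprime_iff_not_dvd.mpr
        fun hd => hg ((ZMod.intCast_zmod_eq_zero_iff_dvd _ p).mpr hd)
      refine IsUnit.of_mul_eq_one (b : T) ?_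
      have := congrArg (fun z : ℤ => (z : T)) hab
      push_cast at this
      rw [hpT, mul_zero, zero_add] at this
      rw [mul_comm]; exact this
    rw [h6]
    exact ((Commute.all _ _).isNilpotent_add ((Commute.all _ _).isNilpotent_mul_left hx)
      ((Commute.all _ _).isNilpotent_mul_left hy)).isUnit_add_left_of_commute hc (Commute.all _ _)
  exact ⟨IsLocalization.lift hu, fun g => (IsLocalization.lift_eq hu _).trans (hθ' g)⟩

theorem sum_pow_eq_zero {T : Type} [CommRing T] {p : ℕ} (hp0 : (p : T) = 0) {t : T} {r : ℕ} (ht : t ^ (r + 1) = 0)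
    (D : ℕ) (c : ℕ → ℤ) (hc : ∀ k < r, (p : ℤ) ∣ c k) :
    ∑ k ∈ Finset.range (D + 1), (c k : T) * t ^ (k + 1) = 0 :=
  Finset.sum_eq_zero fun k _ => by
    rcases Nat.lt_or_ge k r with hk | hk
    · rw [intCast_eq_zero hp0 (hc k hk), zero_mul]
    · rw [show k + 1 = (r + 1) + (k - r) by omega, pow_add, ht, zero_mul, mul_zero]

theorem ker_vanish {T : Type u} [CommRing T] {p : ℕ} (hp0 : (p : T) = 0) {s q : ℤ} (hq : q = s ^ 2)
    (hps : (p : ℤ) ∣ s) {h g : FV} {x y : T} (hxy : x * y = 0) (h0x : x * aeval ![x, y] h = 0)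
    (h0y : y * aeval ![x, y] h = 0) (hg : g ∈ Ideal.span {relq q, h * (X 0 - C s), h * (X 1 - C s)}) :
    aeval ![x, y] g = 0 := by
  obtain ⟨a, b, c, rfl⟩ := Submodule.mem_span_triple.mp hg
  have e1 : (s : T) = 0 := intCast_eq_zero hp0 hps
  have e2 : (q : T) = 0 := by rw [hq, pow_two, Int.cast_mul, e1, mul_zero]
  simp only [smul_eq_mul, relq, map_add, map_mul, map_sub, aeval_X, aeval_C, Matrix.cons_val_zero,
    Matrix.cons_val_one, eq_intCast, map_intCast, e1, e2, sub_zero, hxy]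
  linear_combination aeval ![x, y] b * h0x + aeval ![x, y] c * h0y

theorem exists_socle_degree {P : Polynomial ℤ} {D : ℕ} (hm : P.Monic) (hdeg : P.natDegree = 2 * D) {p : ℕ}
    [Fact p.Prime] (hD : (p : ℤ) ∣ P.coeff D) :
    ∃ r, 1 ≤ r ∧ r ≤ D ∧ ¬ (p : ℤ) ∣ P.coeff (D + r) ∧ ∀ k < r, (p : ℤ) ∣ P.coeff (D + k) := by
  classical
  have htop : ¬ (p : ℤ) ∣ P.coeff (D + D) := fun hd => by
    rw [← two_mul, ← hdeg, hm.coeff_natDegree] at hd
    exact (Nat.prime_iff_prime_int.mp (Fact.out : p.Prime)).not_dvd_one hd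
  have hex : ∃ r, ¬ (p : ℤ) ∣ P.coeff (D + r) := ⟨D, htop⟩
  refine ⟨Nat.find hex, ?_, Nat.find_le htop, Nat.find_spec hex, fun k hk => not_not.mp (Nat.find_min hex hk)⟩
  refine Nat.one_le_iff_ne_zero.mpr fun h0 => ?_
  have := Nat.find_spec hex
  rw [h0] at this
  exact this hD

theorem exists_truncated (p : ℕ) [Fact p.Prime] (r : ℕ) :
    ∃ (T : Type) (_ : CommRing T) (t : T), (p : T) = 0 ∧ t ^ (r + 1) = 0 ∧ t ^ r ≠ 0 := by
  let f : Polynomial (ZMod p) := Polynomial.X ^ (r + 1)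
  refine ⟨AdjoinRoot f, inferInstance, AdjoinRoot.root f, ?_, ?_, ?_⟩
  · rw [← map_natCast (AdjoinRoot.of f), ZMod.natCast_self, map_zero]
  · rw [← AdjoinRoot.mk_X, ← map_pow]; exact AdjoinRoot.mk_self
  · rw [← AdjoinRoot.mk_X, ← map_pow, ne_eq, AdjoinRoot.mk_eq_zero]
    intro hd
    have := Polynomial.natDegree_le_of_dvd hd (pow_ne_zero _ Polynomial.X_ne_zero)
    simp [f] at this

theorem isSMulRegular_localization {R : Type u} [CommRing R] (M : Submonoid R) {p : ℕ}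
    (hreg : ∀ x : R, (p : R) * x = 0 → x = 0) : IsSMulRegular (Localization M) (p : Localization M) := by
  have h : IsSMulRegular (Localization M) (algebraMap R (Localization M) (p : R)) :=
    IsSMulRegular.of_flat (isSMulRegular_iff_right_eq_zero_of_smul.mpr fun x hx => hreg x hx)
  rwa [map_natCast] at h

theorem reduction_rel {Q : Type u} [CommRing Q] [IsLocalRing Q] (π : FV →+* Q) {p : ℕ} [Fact p.Prime]
    (hpi : π (C (p : ℤ)) = 0) (hmem : ∀ i, π (X i) ∈ maximalIdeal Q) {s q : ℤ} (hq : q = s ^ 2) (hps : (p : ℤ) ∣ s)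
    {P : Polynomial ℤ} {D r : ℕ} {ε : ℤ} (hεε : ε * ε = 1) (hD : (p : ℤ) ∣ P.coeff D) (hrD : r ≤ D)
    (hr : ¬ (p : ℤ) ∣ P.coeff (D + r)) (hrmin : ∀ k < r, (p : ℤ) ∣ P.coeff (D + k))
    (hker : ∀ g ∈ Ideal.span {relq q, symPoly P D ε * (X 0 - C s), symPoly P D ε * (X 1 - C s)}, π g = 0) :
    π (X 0) ^ (r + 1) = 0 ∧ π (X 1) ^ (r + 1) = 0 ∧ π (X 0) * π (X 1) = 0 := by
  have hπ : ∀ g, π g = aeval ![π (X 0), π (X 1)] g := fun g => by
    refine RingHom.congr_fun (g := (aeval ![π (X 0), π (X 1)]).toRingHom)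
      (MvPolynomial.ringHom_ext (fun z => by simp) fun i => ?_) g
    fin_cases i <;> simp
  have hp0 : (p : Q) = 0 := by rw [hπ] at hpi; simpa using hpi
  have es : (s : Q) = 0 := intCast_eq_zero hp0 hps
  have e0 : (q : Q) = 0 := by rw [hq, pow_two, Int.cast_mul, es, mul_zero]
  have hxy : π (X 0) * π (X 1) = 0 := by
    have h1 := hker (relq q) (Ideal.subset_span (by simp))
    rw [hπ] at h1
    simpa [relq, e0, sub_eq_zero] using h1
  have h0 : ∀ i : Fin 2, π (X i) * aeval ![π (X 0), π (X 1)] (symPoly P D ε) = 0 := fun i => by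
    have h1 := hker (symPoly P D ε * (X i - C s)) (Ideal.subset_span (by fin_cases i <;> simp))
    rw [map_mul, hπ (symPoly P D ε), hπ (X i - C s)] at h1
    rw [map_sub, aeval_X, aeval_C, show algebraMap ℤ Q s = 0 from by simpa using es, sub_zero] at h1
    rw [mul_comm]
    fin_cases i <;> exact h1
  obtain ⟨e1, e2⟩ := socle_rel hp0 (hmem 0) (hmem 1) hxy hεε hD hrD hr hrmin (h0 0) (h0 1)
  exact ⟨e1, e2, hxy⟩

theorem reduction_mem {A : Type u} [CommRing A] [IsLocalRing A] (ι : FV →+* A) {p : ℕ} [Fact p.Prime]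
    (hmax : maximalIdeal A = Ideal.span {ι (X 0), ι (X 1), ι (C (p : ℤ))})
    {s q : ℤ} (hq : q = s ^ 2) (hps : (p : ℤ) ∣ s)
    {P : Polynomial ℤ} {D r : ℕ} {ε : ℤ} (hεε : ε * ε = 1) (hD : (p : ℤ) ∣ P.coeff D) (hrD : r ≤ D)
    (hr : ¬ (p : ℤ) ∣ P.coeff (D + r)) (hrmin : ∀ k < r, (p : ℤ) ∣ P.coeff (D + k))
    (hker : ∀ g ∈ Ideal.span {relq q, symPoly P D ε * (X 0 - C s), symPoly P D ε * (X 1 - C s)}, ι g = 0) :
    ι (X 0) ^ (r + 1) ∈ Ideal.span {ι (C (p : ℤ))} ∧ ι (X 1) ^ (r + 1) ∈ Ideal.span {ι (C (p : ℤ))} ∧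
      ι (X 0) * ι (X 1) ∈ Ideal.span {ι (C (p : ℤ))} := by
  set I : Ideal A := Ideal.span {ι (C (p : ℤ))} with hI
  have hpm : ι (C (p : ℤ)) ∈ maximalIdeal A := by rw [hmax]; exact Ideal.subset_span (by simp)
  haveI : Nontrivial (A ⧸ I) := Ideal.Quotient.nontrivial_iff.mpr fun htop =>
    (maximalIdeal.isMaximal A).ne_top (top_le_iff.mp (htop ▸ (Ideal.span_le.mpr (Set.singleton_subset_iff.mpr hpm))))
  haveI : IsLocalRing (A ⧸ I) := IsLocalRing.of_surjective' (Ideal.Quotient.mk I) Ideal.Quotient.mk_surjective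
  let π : FV →+* A ⧸ I := (Ideal.Quotient.mk I).comp ι
  have hmem : ∀ i : Fin 2, π (X i) ∈ maximalIdeal (A ⧸ I) := fun i =>
    (IsLocalRing.map_maximalIdeal_of_surjective (Ideal.Quotient.mk I) Ideal.Quotient.mk_surjective).le
      (Ideal.mem_map_of_mem _ (by
        rw [hmax]
        refine Ideal.subset_span ?_
        fin_cases i <;> simp))
  obtain ⟨e1, e2, e3⟩ := reduction_rel π (Ideal.Quotient.eq_zero_iff_mem.mpr (Ideal.subset_span rfl)) hmem hq hps
    hεε hD hrD hr hrmin fun g hg => by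
      show Ideal.Quotient.mk I (ι g) = 0
      rw [hker g hg, map_zero]
  refine ⟨Ideal.Quotient.eq_zero_iff_mem.mp ?_, Ideal.Quotient.eq_zero_iff_mem.mp ?_,
    Ideal.Quotient.eq_zero_iff_mem.mp ?_⟩
  · rw [map_pow]; exact e1
  · rw [map_pow]; exact e2
  · rw [map_mul]; exact e3

theorem not_gorenstein_twist {B : Type u} [CommRing B] (φ : FV →ₐ[ℤ] B) {p : ℕ} [Fact p.Prime]
    (hreg : ∀ x : φ.range, (p : φ.range) * x = 0 → x = 0) {s q : ℤ} (hq : q = s ^ 2) (hps : (p : ℤ) ∣ s)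
    {P : Polynomial ℤ} {ε : ℤ} {D : ℕ} (hs : IsSym P q D ε)
    (hker : RingHom.ker φ = Ideal.span {relq q, symPoly P D ε * (X 0 - C s), symPoly P D ε * (X 1 - C s)})
    (hD : (p : ℤ) ∣ P.coeff D) : ¬ LocCoh.IsGorensteinRing φ.range := by
  intro hG
  haveI := hG
  obtain ⟨r, hr1, hrD, hr, hrmin⟩ := exists_socle_degree hs.monic hs.natDegree hD
  let ρ : FV →+* φ.range := φ.rangeRestrict.toRingHom
  have hρ : Function.Surjective ρ := φ.rangeRestrict_surjective
  have hρker : RingHom.ker ρ = Ideal.span {relq q, symPoly P D ε * (X 0 - C s), symPoly P D ε * (X 1 - C s)} :=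
    (Ideal.ext fun g => ⟨fun hg => congrArg Subtype.val hg, fun hg => Subtype.ext hg⟩ : RingHom.ker ρ = RingHom.ker φ).trans hker
  haveI : (RingHom.ker (aeval ![(0 : ZMod p), 0] : FV →ₐ[ℤ] ZMod p)).IsPrime := RingHom.ker_isPrime _
  haveI hmp : (Ideal.map ρ (RingHom.ker (aeval ![(0 : ZMod p), 0] : FV →ₐ[ℤ] ZMod p))).IsPrime :=
    Ideal.map_isPrime_of_surjective hρ fun g hg => by
      rw [hρker] at hg
      exact ker_vanish (ZMod.natCast_self p) hq hps (mul_zero _) (zero_mul _) (zero_mul _) hg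
  let A := Localization.AtPrime (Ideal.map ρ (RingHom.ker (aeval ![(0 : ZMod p), 0] : FV →ₐ[ℤ] ZMod p)))
  haveI : LocCoh.IsGorensteinLocalRing A := LocCoh.IsGorensteinRing.isGorensteinLocalRing_localization _
  let ι : FV →+* A := (algebraMap φ.range A).comp ρ
  have hp₀ : ι (C (p : ℤ)) = (p : A) := by simp [ι]
  have hP₀ : RingHom.ker (aeval ![(0 : ZMod p), 0] : FV →ₐ[ℤ] ZMod p) = Ideal.span {X 0, X 1, C (p : ℤ)} := by
    refine le_antisymm (fun g hg => ?_) (Ideal.span_le.mpr ?_)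
    · rw [RingHom.mem_ker, ← eval_cast, ZMod.intCast_zmod_eq_zero_iff_dvd] at hg
      obtain ⟨c, hc⟩ := hg
      obtain ⟨x, y, hxy⟩ := Ideal.mem_span_pair.mp (sub_C_eval_mem g)
      rw [hc, map_mul] at hxy
      exact Submodule.mem_span_triple.mpr ⟨x, y, C c, by simp only [smul_eq_mul]; linear_combination hxy⟩
    · simp [Set.insert_subset_iff, RingHom.mem_ker]
  have hmax : maximalIdeal A = Ideal.span {ι (X 0), ι (X 1), ι (C (p : ℤ))} := by
    refine (Localization.AtPrime.map_eq_maximalIdeal (I := Ideal.map ρ _)).symm.trans ?_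
    rw [Ideal.map_map]
    refine (congrArg (Ideal.map ι) hP₀).trans ?_
    rw [Ideal.map_span]
    simp [Set.image_insert_eq]
  have hpreg : IsSMulRegular A (ι (C (p : ℤ))) := by rw [hp₀]; exact isSMulRegular_localization _ hreg
  have hpm : ι (C (p : ℤ)) ∈ maximalIdeal A := by rw [hmax]; exact Ideal.subset_span (by simp)
  obtain ⟨hf, hv, hfv⟩ := reduction_mem (r := r) ι hmax hq hps hs.sign hD hrD hr hrmin fun g hg => by
    show algebraMap φ.range A (ρ g) = 0
    rw [RingHom.mem_ker.mp (hρker ▸ hg : g ∈ RingHom.ker ρ), map_zero]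
  obtain ⟨T, _, t, hpT, ht, htr⟩ := exists_truncated p r
  have hnt : IsNilpotent t := ⟨r + 1, ht⟩
  have hsum := fun c hc => sum_pow_eq_zero hpT ht D c hc
  obtain ⟨Θ₁, hΘ₁⟩ := exists_detect ρ hρ p hpT t 0 hnt IsNilpotent.zero fun g hg => ker_vanish hpT hq hps (mul_zero _)
    (by rw [(mul_symPoly hpT (mul_zero _) hD).1]; exact hsum _ hrmin) (zero_mul _) (hρker ▸ hg)
  obtain ⟨Θ₂, hΘ₂⟩ := exists_detect ρ hρ p hpT 0 t IsNilpotent.zero hnt fun g hg => ker_vanish hpT hq hps (zero_mul _)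
    (zero_mul _) (by rw [(mul_symPoly hpT (zero_mul _) hD).2]
                     exact hsum _ fun k hk => Dvd.dvd.mul_left (hrmin k hk) ε) (hρker ▸ hg)
  refine not_gorenstein_core (r := r) hmax hpreg hr1 hf hv hfv ?_ ?_
  · intro hm
    obtain ⟨c, hc⟩ := Ideal.mem_span_singleton'.mp hm
    have h1 := congrArg Θ₂ hc
    rw [map_mul, hp₀, map_natCast, hpT, mul_zero, map_pow] at h1
    erw [hΘ₂] at h1
    rw [aeval_X] at h1
    exact htr (by simpa using h1.symm)
  · intro hm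
    obtain ⟨c, d, hcd⟩ := Ideal.mem_span_pair.mp hm
    have h1 := congrArg Θ₁ hcd
    rw [map_add, map_mul, map_mul, hp₀, map_natCast, hpT, mul_zero, add_zero, map_pow, map_pow] at h1
    erw [hΘ₁, hΘ₁] at h1
    rw [aeval_X, aeval_X] at h1
    simp [zero_pow (Nat.one_le_iff_ne_zero.mp hr1)] at h1
    exact htr h1.symm

end NotGorTwist

end Groth.Agent.H23WeilN
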